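import Mathlib
import Cfsg.Agent.Lib.Helper5.ChevGroupCard
import Cfsg.Agent.Lib.Helper5.ChevBruhatNF
import Cfsg.Agent.Lib.Helper5.ChevWPerm
import Cfsg.Agent.Lib.Helper5.ChevWKer
import Cfsg.Agent.Lib.Helper5.ChevBN

set_option autoImplicit false

/-!
Bruhat cells `B n_w B` of a Chevalley group: the type of an element, the product rule on the right,
and reduction modulo a standard parabolic subgroup.
-/

namespace Cfsg.Agent.Lib.Helper5.StChar

open Cfsg Cfsg.Lie Cfsg.Agent.Lib.Helper5.ChevSym Cfsg.Agent.Lib.Helper5.ChevStruct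

variable {F : Type*} [Field F]

/-- `g ∈ B n_w B` -/
def InCell (D : ChevalleyDatum) (hD : D ∈ Seven) (w : List ℕ) (g : GL D.Idx F) : Prop :=
  ∃ b₁ ∈ D.borelSubgroup F, ∃ b₂ ∈ D.borelSubgroup F, g = b₁ * wGL D hD w * b₂

theorem inCell_exists (D : ChevalleyDatum) (hD : D ∈ Seven) (g : GL D.Idx F) (hg : g ∈ D.group F) :
    ∃ w : List ℕ, Wd D w ∧ InCell D hD w g := by
  obtain ⟨w, hw, b, hb, v, hv, e⟩ := bruhat_exists_word D hD g hg
  exact ⟨w, hw, b, hb, v, pos_le_borel D (unegOf_le_pos D _ (unegSub_le_unegOf D hD w hw hv)), e⟩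

theorem inCell_mul_left (D : ChevalleyDatum) (hD : D ∈ Seven) (w : List ℕ) (g b : GL D.Idx F)
    (hb : b ∈ D.borelSubgroup F) (h : InCell D hD w g) : InCell D hD w (b * g) := by
  obtain ⟨b₁, hb₁, b₂, hb₂, rfl⟩ := h
  exact ⟨b * b₁, mul_mem hb hb₁, b₂, hb₂, by group⟩

theorem inCell_mul_right (D : ChevalleyDatum) (hD : D ∈ Seven) (w : List ℕ) (g b : GL D.Idx F)
    (hb : b ∈ D.borelSubgroup F) (h : InCell D hD w g) : InCell D hD w (g * b) := by
  obtain ⟨b₁, hb₁, b₂, hb₂, rfl⟩ := h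
  exact ⟨b₁, hb₁, b₂ * b, mul_mem hb₂ hb, by group⟩

theorem inCell_mem_group (D : ChevalleyDatum) (hD : D ∈ Seven) (w : List ℕ) (hw : Wd D w)
    (g : GL D.Idx F) (h : InCell D hD w g) : g ∈ D.group F := by
  obtain ⟨b₁, hb₁, b₂, hb₂, rfl⟩ := h
  exact mul_mem (mul_mem (borel_le_group D hD hb₁) (monomial_le_group D hD (wGL_mem D hD w hw)))
    (borel_le_group D hD hb₂)

/-- the cell depends only on the Weyl group element -/
theorem inCell_congr (D : ChevalleyDatum) (hD : D ∈ Seven) (w w' : List ℕ) (hw : Wd D w)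
    (hw' : Wd D w') (h : wPerm D hD w = wPerm D hD w') (g : GL D.Idx F) (hg : InCell D hD w g) :
    InCell D hD w' g := by
  obtain ⟨b₁, hb₁, b₂, hb₂, rfl⟩ := hg
  have hH : (wGL D hD w' * (wGL D hD w)⁻¹ : GL D.Idx F) ∈ D.diagonalSubgroup F :=
    (hrel_iff_act_eq D hD w' w hw' hw).2 ((wPerm_eq_iff D hD w' w hw' hw).1 h.symm)
  have hN := wGL_mem (F := F) D hD w' hw'
  have hH' := (conj_monomial_diag_mem D hD _ hN _ hH).2
  refine ⟨b₁, hb₁, ((wGL D hD w')⁻¹ * (wGL D hD w' * (wGL D hD w)⁻¹) * wGL D hD w')⁻¹ * b₂,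
    mul_mem (inv_mem (diagonal_le_borel D hH')) hb₂, by group⟩

/-- the Weyl group element of a cell is determined by any of its elements -/
theorem inCell_unique (D : ChevalleyDatum) (hD : D ∈ Seven) (w w' : List ℕ) (hw : Wd D w)
    (hw' : Wd D w') (g : GL D.Idx F) (h : InCell D hD w g) (h' : InCell D hD w' g) :
    wPerm D hD w = wPerm D hD w' := by
  obtain ⟨b₁, hb₁, b₂, hb₂, e⟩ := h
  obtain ⟨c₁, hc₁, c₂, hc₂, e'⟩ := h'
  have hN := wGL_mem (F := F) D hD w hw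
  have hN' := wGL_mem (F := F) D hD w' hw'
  -- use the uniqueness of the double coset
  have hgG : b₁ * wGL D hD w * b₂ ∈ D.group F :=
    mul_mem (mul_mem (borel_le_group D hD hb₁) (monomial_le_group D hD hN))
      (borel_le_group D hD hb₂)
  have hnG := monomial_le_group D hD hN
  have hn'G := monomial_le_group D hD hN'
  have h1 : (⟨b₁ * wGL D hD w * b₂, hgG⟩ : ↥(D.group F)) ∈ DoubleCoset.doubleCoset
      (⟨wGL D hD w, hnG⟩ : ↥(D.group F))
      ((chevBNPair D hD F).B : Set ↥(D.group F)) (chevBNPair D hD F).B := by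
    apply doubleCoset_subgroupOf (D.group F) (D.borelSubgroup F) (borel_le_group D hD)
    rw [DoubleCoset.mem_doubleCoset]
    exact ⟨b₁, hb₁, b₂, hb₂, rfl⟩
  have h2 : (⟨b₁ * wGL D hD w * b₂, hgG⟩ : ↥(D.group F)) ∈ DoubleCoset.doubleCoset
      (⟨wGL D hD w', hn'G⟩ : ↥(D.group F))
      ((chevBNPair D hD F).B : Set ↥(D.group F)) (chevBNPair D hD F).B := by
    apply doubleCoset_subgroupOf (D.group F) (D.borelSubgroup F) (borel_le_group D hD)
    rw [DoubleCoset.mem_doubleCoset]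
    exact ⟨c₁, hc₁, c₂, hc₂, by rw [← e', e]⟩
  have heq : DoubleCoset.doubleCoset (⟨wGL D hD w, hnG⟩ : ↥(D.group F))
      ((chevBNPair D hD F).B : Set ↥(D.group F)) (chevBNPair D hD F).B
      = DoubleCoset.doubleCoset (⟨wGL D hD w', hn'G⟩ : ↥(D.group F))
      ((chevBNPair D hD F).B : Set ↥(D.group F)) (chevBNPair D hD F).B := by
    apply DoubleCoset.eq_of_not_disjoint
    rw [Set.not_disjoint_iff]
    exact ⟨_, h1, h2⟩
  have h3 := (Cfsg.Agent.S0309.result (chevBNPair D hD F) (n := ⟨wGL D hD w, hnG⟩)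
    (n' := ⟨wGL D hD w', hn'G⟩) hN hN').1 heq
  have h4 : (wGL D hD w)⁻¹ * wGL D hD w' ∈ D.borelSubgroup F := h3
  have h5 : (wGL D hD w)⁻¹ * wGL D hD w' ∈ D.diagonalSubgroup F := by
    rw [← borel_inf_monomial D hD]
    exact ⟨h4, (D.monomialSubgroup F).mul_mem ((D.monomialSubgroup F).inv_mem hN) hN'⟩
  have h6 := (conj_monomial_diag_mem D hD _ hN _ h5).1
  have h7 : (wGL D hD w' * (wGL D hD w)⁻¹ : GL D.Idx F) ∈ D.diagonalSubgroup F := by
    have e3 : (wGL D hD w' * (wGL D hD w)⁻¹ : GL D.Idx F)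
        = wGL D hD w * ((wGL D hD w)⁻¹ * wGL D hD w') * (wGL D hD w)⁻¹ := by group
    rw [e3]
    exact h6
  exact ((wPerm_eq_iff D hD w' w hw' hw).2 ((hrel_iff_act_eq D hD w' w hw' hw).1 h7)).symm

end Cfsg.Agent.Lib.Helper5.StChar
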