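import Mathlib
import Cfsg.Agent.Lib.Helper5.StChar.Cells
import Cfsg.Agent.Lib.Helper5.ChevBnB
import Cfsg.Agent.Lib.Helper5.ChevNConj
import Cfsg.Agent.Lib.Helper5.ChevNormal
import Cfsg.Agent.Lib.Helper5.ChevPara

set_option autoImplicit false

/-!
Product rules for Bruhat cells on the left and on the right, reduced words inside a parabolic
subgroup of the Weyl group, and the cells of a standard parabolic subgroup.
-/

namespace Cfsg.Agent.Lib.Helper5.StChar

open Cfsg Cfsg.Lie Cfsg.Agent.Lib.Helper5.ChevSym Cfsg.Agent.Lib.Helper5.ChevStruct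

variable {F : Type*} [Field F]

theorem inCell_inv (D : ChevalleyDatum) (hD : D ∈ Seven) (w : List ℕ) (hw : Wd D w)
    (g : GL D.Idx F) (h : InCell D hD w g) : InCell D hD w.reverse g⁻¹ := by
  obtain ⟨b₁, hb₁, b₂, hb₂, rfl⟩ := h
  obtain ⟨t, ht, e⟩ := wGL_inv (F := F) D hD w hw
  refine ⟨b₂⁻¹, inv_mem hb₂, t * b₁⁻¹, mul_mem (diagonal_le_borel D ht) (inv_mem hb₁), ?_⟩
  rw [mul_inv_rev, mul_inv_rev, e]
  group

theorem inCell_nil (D : ChevalleyDatum) (hD : D ∈ Seven) (g : GL D.Idx F) :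
    InCell D hD [] g ↔ g ∈ D.borelSubgroup F := by
  constructor
  · rintro ⟨b₁, hb₁, b₂, hb₂, rfl⟩
    rw [wGL_nil, mul_one]
    exact mul_mem hb₁ hb₂
  · intro h
    exact ⟨g, h, 1, one_mem _, by rw [wGL_nil, mul_one, mul_one]⟩

theorem wGL_single (D : ChevalleyDatum) (hD : D ∈ Seven) (i : ℕ) :
    (wGL D hD [i] : GL D.Idx F) = nGL D hD i := by
  rw [wGL_cons, wGL_nil, mul_one]

/-- the strong product rule on the left -/
theorem nGL_mul_inCell_pos (D : ChevalleyDatum) (hD : D ∈ Seven) (i : ℕ) (hi : i < D.rank)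
    (w : List ℕ) (hw : Wd D w) (hpos : D.IsPosRoot (wAct D w.reverse (D.simple i)))
    (g : GL D.Idx F) (h : InCell D hD w g) : InCell D hD (i :: w) (nGL D hD i * g) := by
  obtain ⟨b₁, hb₁, b₂, hb₂, rfl⟩ := h
  have h1 := nGL_borel_wGL_pos D hD i hi w hw hpos b₁ hb₁
  rw [DoubleCoset.mem_doubleCoset] at h1
  obtain ⟨c₁, hc₁, c₂, hc₂, e⟩ := h1
  refine ⟨c₁, hc₁, c₂ * b₂, mul_mem hc₂ hb₂, ?_⟩
  rw [wGL_cons]
  calc nGL D hD i * (b₁ * wGL D hD w * b₂) = (nGL D hD i * b₁ * wGL D hD w) * b₂ := by group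
    _ = (c₁ * (nGL D hD i * wGL D hD w) * c₂) * b₂ := by rw [e]
    _ = c₁ * (nGL D hD i * wGL D hD w) * (c₂ * b₂) := by group

/-- the weak product rule on the left -/
theorem nGL_mul_inCell (D : ChevalleyDatum) (hD : D ∈ Seven) (i : ℕ) (hi : i < D.rank)
    (w : List ℕ) (hw : Wd D w) (g : GL D.Idx F) (h : InCell D hD w g) :
    InCell D hD (i :: w) (nGL D hD i * g) ∨ InCell D hD w (nGL D hD i * g) := by
  by_cases hpos : D.IsPosRoot (wAct D w.reverse (D.simple i))
  · exact Or.inl (nGL_mul_inCell_pos D hD i hi w hw hpos g h)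
  · have hlt : wAct D w.reverse (D.simple i) < D.nroots :=
      wAct_lt D hD _ hw.reverse _ (simple_lt D hD i hi)
    have hneg := pos_neg_of_not_pos D hD _ hlt hpos
    obtain ⟨b₁, hb₁, b₂, hb₂, rfl⟩ := h
    have h1 := nGL_borel_wGL_neg D hD i hi w hw hneg b₁ hb₁
    have e0 : nGL D hD i * (b₁ * wGL D hD w * b₂) = (nGL D hD i * b₁ * wGL D hD w) * b₂ := by
      group
    rcases h1 with h1 | h1
    · left
      rw [DoubleCoset.mem_doubleCoset] at h1
      obtain ⟨c₁, hc₁, c₂, hc₂, e⟩ := h1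
      refine ⟨c₁, hc₁, c₂ * b₂, mul_mem hc₂ hb₂, ?_⟩
      rw [wGL_cons, e0, e]
      group
    · right
      rw [DoubleCoset.mem_doubleCoset] at h1
      obtain ⟨c₁, hc₁, c₂, hc₂, e⟩ := h1
      refine ⟨c₁, hc₁, c₂ * b₂, mul_mem hc₂ hb₂, ?_⟩
      rw [e0, e]
      group

/-- the strong product rule on the right -/
theorem inCell_mul_nGL_pos (D : ChevalleyDatum) (hD : D ∈ Seven) (u : List ℕ) (hu : Wd D u)
    (i : ℕ) (hi : i < D.rank) (hpos : D.IsPosRoot (wAct D u (D.simple i)))
    (x : GL D.Idx F) (h : InCell D hD u x) : InCell D hD (u ++ [i]) (x * nGL D hD i) := by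
  have h1 := inCell_inv D hD u hu x h
  have ht := (nGL_sq_mem (F := F) D hD i hi).2
  have h2 : InCell D hD u.reverse ((nGL D hD i)⁻¹ * (nGL D hD i)⁻¹ * x⁻¹) :=
    inCell_mul_left D hD _ _ _ (diagonal_le_borel D ht) h1
  have h3 := nGL_mul_inCell_pos D hD i hi u.reverse hu.reverse
    (by rw [List.reverse_reverse]; exact hpos) _ h2
  have h4 := inCell_inv D hD (i :: u.reverse) (Wd.cons hi hu.reverse) _ h3
  rw [List.reverse_cons, List.reverse_reverse] at h4
  have e : (nGL D hD i * ((nGL D hD i)⁻¹ * (nGL D hD i)⁻¹ * x⁻¹))⁻¹ = x * nGL D hD i := by group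
  rw [e] at h4
  exact h4

/-- the weak product rule on the right -/
theorem inCell_mul_nGL (D : ChevalleyDatum) (hD : D ∈ Seven) (u : List ℕ) (hu : Wd D u)
    (i : ℕ) (hi : i < D.rank) (x : GL D.Idx F) (h : InCell D hD u x) :
    InCell D hD (u ++ [i]) (x * nGL D hD i) ∨ InCell D hD u (x * nGL D hD i) := by
  have h1 := inCell_inv D hD u hu x h
  have ht := (nGL_sq_mem (F := F) D hD i hi).2
  have h2 : InCell D hD u.reverse ((nGL D hD i)⁻¹ * (nGL D hD i)⁻¹ * x⁻¹) :=
    inCell_mul_left D hD _ _ _ (diagonal_le_borel D ht) h1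
  have e : (nGL D hD i * ((nGL D hD i)⁻¹ * (nGL D hD i)⁻¹ * x⁻¹))⁻¹ = x * nGL D hD i := by group
  rcases nGL_mul_inCell D hD i hi u.reverse hu.reverse _ h2 with h3 | h3
  · left
    have h4 := inCell_inv D hD (i :: u.reverse) (Wd.cons hi hu.reverse) _ h3
    rw [List.reverse_cons, List.reverse_reverse, e] at h4
    exact h4
  · right
    have h4 := inCell_inv D hD u.reverse hu.reverse _ h3
    rw [List.reverse_reverse, e] at h4
    exact h4

/-- `v` is a reduced word after the prefix `u`: each letter lengthens the word -/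
def PrefRed (D : ChevalleyDatum) : List ℕ → List ℕ → Prop
  | _, [] => True
  | u, i :: v => D.IsPosRoot (wAct D u (D.simple i)) ∧ PrefRed D (u ++ [i]) v

theorem prefRed_append_single (D : ChevalleyDatum) (u v : List ℕ) (j : ℕ) :
    PrefRed D u (v ++ [j]) ↔ PrefRed D u v ∧ D.IsPosRoot (wAct D (u ++ v) (D.simple j)) := by
  induction v generalizing u with
  | nil => simp [PrefRed]
  | cons i v ih =>
    rw [List.cons_append]
    unfold PrefRed
    rw [ih (u ++ [i]), List.append_assoc, List.singleton_append, and_assoc]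

/-- multiplying a cell by a reduced word on the right -/
theorem inCell_mul_wGL (D : ChevalleyDatum) (hD : D ∈ Seven) (v : List ℕ) :
    ∀ (u : List ℕ), Wd D u → Wd D v → PrefRed D u v → ∀ (x b : GL D.Idx F),
      b ∈ D.borelSubgroup F → InCell D hD u x → InCell D hD (u ++ v) (x * b * wGL D hD v) := by
  induction v with
  | nil =>
    intro u _ _ _ x b hb hx
    rw [wGL_nil, mul_one, List.append_nil]
    exact inCell_mul_right D hD u x b hb hx
  | cons i v ih =>
    intro u hu hv hred x b hb hx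
    obtain ⟨hpos, hred'⟩ := hred
    have h1 := inCell_mul_nGL_pos D hD u hu i hv.head hpos (x * b)
      (inCell_mul_right D hD u x b hb hx)
    have h2 := ih (u ++ [i]) (hu.append (Wd.single hv.head)) hv.tail hred' _ 1 (one_mem _) h1
    rw [List.append_assoc, List.singleton_append] at h2
    rw [wGL_cons]
    have e : x * b * (nGL D hD i * wGL D hD v) = x * b * nGL D hD i * 1 * wGL D hD v := by group
    rw [e]
    exact h2

theorem inCell_mul_cell (D : ChevalleyDatum) (hD : D ∈ Seven) (u v : List ℕ) (hu : Wd D u)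
    (hv : Wd D v) (hred : PrefRed D u v) (x p : GL D.Idx F) (hx : InCell D hD u x)
    (hp : InCell D hD v p) : InCell D hD (u ++ v) (x * p) := by
  obtain ⟨c₁, hc₁, c₂, hc₂, rfl⟩ := hp
  have h1 := inCell_mul_wGL D hD v u hu hv hred x c₁ hc₁ hx
  have h2 := inCell_mul_right D hD _ _ c₂ hc₂ h1
  have e : x * (c₁ * wGL D hD v * c₂) = x * c₁ * wGL D hD v * c₂ := by group
  rw [e]
  exact h2

/-- a reduced word of `W_J` stays reduced after an element of `W^J` -/
theorem prefRed_of_para (D : ChevalleyDatum) (hD : D ∈ Seven) (J : Set ℕ) (u : List ℕ)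
    (hu : Wd D u) (hpos : ∀ j < D.rank, j ∈ J → D.IsPosRoot (wAct D u (D.simple j)))
    (v : List ℕ) : ∀ a : List ℕ, WdIn D J a → WdIn D J v → PrefRed D a v →
      PrefRed D (u ++ a) v := by
  induction v with
  | nil => intro a _ _ _; trivial
  | cons i v ih =>
    intro a ha hv hred
    obtain ⟨hp, hred'⟩ := hred
    refine ⟨?_, ?_⟩
    · rw [wAct_append]
      have hr : D.InRootSub J (wAct D a (D.simple i)) :=
        inRootSub_wAct D hD J a ha _ (inRootSub_simple D hD J i hv.head.1 hv.head.2)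
      exact (wAct_sign_of_para D hD J u hu hpos _ hr).2 hp
    · have := ih (a ++ [i]) (ha.append (WdIn.single hv.head.1 hv.head.2)) hv.tail hred'
      rw [← List.append_assoc] at this
      exact this

/-- every element of `W_J` has a reduced word in the letters of `J` -/
theorem exists_prefRed (D : ChevalleyDatum) (hD : D ∈ Seven) (J : Set ℕ) :
    ∀ n : ℕ, ∀ v : List ℕ, WdIn D J v → (negSet D v).card = n →
      ∃ v' : List ℕ, WdIn D J v' ∧ wPerm D hD v' = wPerm D hD v ∧ PrefRed D [] v' := by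
  intro n
  induction n using Nat.strong_induction_on with
  | _ n ih =>
    intro v hv hn
    by_cases hall : ∀ j < D.rank, j ∈ J → D.IsPosRoot (wAct D v (D.simple j))
    · -- `v` lies in `W^J ∩ W_J`
      have h1 : wPerm D hD v = wPerm D hD [] := by
        apply para_min_unique D hD J v [] hv.wd (Wd.nil D) hall
        · intro j hj _
          exact (checkUp_spec D j (chkUp_all D hD j hj)).1
        · rw [wPerm_nil, mul_one]
          exact inv_mem (wPerm_mem_parab D hD J v hv)
      exact ⟨[], WdIn.nil D J, h1.symm, trivial⟩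
    · push Not at hall
      obtain ⟨j, hj, hjJ, hneg⟩ := hall
      have hcard := card_negSet_append D hD v hv.wd j hj hneg
      obtain ⟨v', hv', e', hred'⟩ := ih ((negSet D (v ++ [j])).card) (by omega) (v ++ [j])
        (hv.append (WdIn.single hj hjJ)) rfl
      refine ⟨v' ++ [j], hv'.append (WdIn.single hj hjJ), ?_, ?_⟩
      · rw [wPerm_append, e', wPerm_append, mul_assoc, wPerm_single, sPerm_mul_self D hD j hj,
          mul_one]
      · rw [prefRed_append_single]
        refine ⟨hred', ?_⟩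
        rw [List.nil_append]
        have hact := (wPerm_eq_iff D hD v' (v ++ [j]) hv'.wd
          (hv.wd.append (Wd.single hj))).1 e' (D.simple j) (simple_lt D hD j hj)
        rw [hact, wAct_append_single, reflectRoot_simple,
          wAct_neg D hD v hv.wd _ (simple_lt D hD j hj)]
        exact pos_neg_of_not_pos D hD _ (wAct_lt D hD v hv.wd _ (simple_lt D hD j hj)) hneg

theorem borel_le_parabolic (D : ChevalleyDatum) (J : Set ℕ) :
    D.borelSubgroup F ≤ D.parabolicSubgroup F J := by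
  unfold ChevalleyDatum.parabolicSubgroup
  exact le_sup_left

/-- a standard parabolic subgroup is the union of the cells of `W_J` -/
theorem parabolic_cells (D : ChevalleyDatum) (hD : D ∈ Seven) (J : Set ℕ) (p : GL D.Idx F)
    (hp : p ∈ D.parabolicSubgroup F J) : ∃ v : List ℕ, WdIn D J v ∧ InCell D hD v p := by
  have hcl : D.parabolicSubgroup F J = Subgroup.closure ((D.borelSubgroup F : Set (GL D.Idx F)) ∪
      {g | ∃ j ∈ J, j < D.rank ∧ (g : Matrix D.Idx D.Idx F) = D.nMat F (D.simple j) 1}) := by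
    unfold ChevalleyDatum.parabolicSubgroup
    rw [Subgroup.closure_union, Subgroup.closure_eq]
  rw [hcl] at hp
  have hgen : ∀ y : GL D.Idx F, (y ∈ (D.borelSubgroup F : Set (GL D.Idx F)) ∪
      {g | ∃ j ∈ J, j < D.rank ∧ (g : Matrix D.Idx D.Idx F) = D.nMat F (D.simple j) 1}) →
      y ∈ D.borelSubgroup F ∨ ∃ j ∈ J, j < D.rank ∧ y = nGL D hD j := by
    rintro y (hy | ⟨j, hjJ, hj, hy⟩)
    · exact Or.inl hy
    · refine Or.inr ⟨j, hjJ, hj, ?_⟩
      apply Units.ext
      rw [hy, nGL_val]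
  induction hp using Subgroup.closure_induction_right with
  | one => exact ⟨[], WdIn.nil D J, (inCell_nil D hD 1).2 (one_mem _)⟩
  | mul_right x hx y hy ih =>
    obtain ⟨v, hv, hxv⟩ := ih
    rcases hgen y hy with hyB | ⟨j, hjJ, hj, rfl⟩
    · exact ⟨v, hv, inCell_mul_right D hD v x y hyB hxv⟩
    · rcases inCell_mul_nGL D hD v hv.wd j hj x hxv with h | h
      · exact ⟨v ++ [j], hv.append (WdIn.single hj hjJ), h⟩
      · exact ⟨v, hv, h⟩
  | mul_inv_cancel x hx y hy ih =>
    obtain ⟨v, hv, hxv⟩ := ih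
    rcases hgen y hy with hyB | ⟨j, hjJ, hj, rfl⟩
    · exact ⟨v, hv, inCell_mul_right D hD v x y⁻¹ (inv_mem hyB) hxv⟩
    · have ht := (nGL_sq_mem (F := F) D hD j hj).2
      have e : x * (nGL D hD j)⁻¹ = x * nGL D hD j * ((nGL D hD j)⁻¹ * (nGL D hD j)⁻¹) := by
        group
      rw [e]
      rcases inCell_mul_nGL D hD v hv.wd j hj x hxv with h | h
      · exact ⟨v ++ [j], hv.append (WdIn.single hj hjJ),
          inCell_mul_right D hD _ _ _ (diagonal_le_borel D ht) h⟩
      · exact ⟨v, hv, inCell_mul_right D hD _ _ _ (diagonal_le_borel D ht) h⟩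

/-- `x` lies in a cell `B n_u B` with `u` of minimal length in `u W_J` -/
def IsRed (D : ChevalleyDatum) (hD : D ∈ Seven) (J : Set ℕ) (x : GL D.Idx F) : Prop :=
  ∃ u : List ℕ, Wd D u ∧ (∀ j < D.rank, j ∈ J → D.IsPosRoot (wAct D u (D.simple j))) ∧
    InCell D hD u x

theorem red_exists_aux (D : ChevalleyDatum) (hD : D ∈ Seven) (J : Set ℕ) :
    ∀ n : ℕ, ∀ u : List ℕ, Wd D u → (negSet D u).card = n → ∀ x : GL D.Idx F,
      InCell D hD u x → ∃ p ∈ D.parabolicSubgroup F J, IsRed D hD J (x * p) := by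
  intro n
  induction n using Nat.strong_induction_on with
  | _ n ih =>
    intro u hu hn x hx
    by_cases hall : ∀ j < D.rank, j ∈ J → D.IsPosRoot (wAct D u (D.simple j))
    · exact ⟨1, one_mem _, u, hu, hall, by rwa [mul_one]⟩
    · push Not at hall
      obtain ⟨j, hj, hjJ, hneg⟩ := hall
      obtain ⟨b₁, hb₁, b₂, hb₂, rfl⟩ := hx
      have hcard := card_negSet_append D hD u hu j hj hneg
      have hcell : InCell D hD (u ++ [j]) (b₁ * wGL D hD u * b₂ * (b₂⁻¹ * nGL D hD j)) := by
        refine ⟨b₁, hb₁, 1, one_mem _, ?_⟩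
        rw [wGL_append, wGL_single]
        group
      obtain ⟨p, hp, hred⟩ := ih ((negSet D (u ++ [j])).card) (by omega) (u ++ [j])
        (hu.append (Wd.single hj)) rfl _ hcell
      refine ⟨b₂⁻¹ * nGL D hD j * p, mul_mem (mul_mem (inv_mem (borel_le_parabolic D J hb₂))
        (nGL_mem_parabolic D hD J j hjJ hj)) hp, ?_⟩
      have e : b₁ * wGL D hD u * b₂ * (b₂⁻¹ * nGL D hD j * p)
          = b₁ * wGL D hD u * b₂ * (b₂⁻¹ * nGL D hD j) * p := by group
      rw [e]
      exact hred

/-- every coset `x P_J` contains an element of a minimal cell -/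
theorem red_exists (D : ChevalleyDatum) (hD : D ∈ Seven) (J : Set ℕ) (x : GL D.Idx F)
    (hx : x ∈ D.group F) : ∃ p ∈ D.parabolicSubgroup F J, IsRed D hD J (x * p) := by
  obtain ⟨u, hu, hxu⟩ := inCell_exists D hD x hx
  exact red_exists_aux D hD J _ u hu rfl x hxu

/-- two elements of minimal cells in the same coset of `P_J` differ by an element of `B` -/
theorem red_unique (D : ChevalleyDatum) (hD : D ∈ Seven) (J : Set ℕ) (x p : GL D.Idx F)
    (hp : p ∈ D.parabolicSubgroup F J) (h1 : IsRed D hD J x) (h2 : IsRed D hD J (x * p)) :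
    p ∈ D.borelSubgroup F := by
  obtain ⟨u, hu, hpos, hx⟩ := h1
  obtain ⟨u', hu', hpos', hxp⟩ := h2
  obtain ⟨v, hv, hpv⟩ := parabolic_cells D hD J p hp
  obtain ⟨v', hv', ev, hred⟩ := exists_prefRed D hD J _ v hv rfl
  have hpv' : InCell D hD v' p := inCell_congr D hD v v' hv.wd hv'.wd ev.symm p hpv
  have hred' : PrefRed D u v' := by
    have := prefRed_of_para D hD J u hu hpos v' [] (WdIn.nil D J) hv' hred
    rwa [List.append_nil] at this
  have hcell := inCell_mul_cell D hD u v' hu hv'.wd hred' x p hx hpv'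
  have e1 := inCell_unique D hD u' (u ++ v') hu' (hu.append hv'.wd) (x * p) hxp hcell
  have e2 : wPerm D hD u = wPerm D hD u' := by
    apply para_min_unique D hD J u u' hu hu' hpos hpos'
    rw [e1, wPerm_append, inv_mul_cancel_left]
    exact wPerm_mem_parab D hD J v' hv'
  have e3 : wPerm D hD v' = wPerm D hD [] := by
    rw [wPerm_nil]
    rw [e1, wPerm_append] at e2
    exact (mul_eq_left).1 e2.symm
  exact (inCell_nil D hD p).1 (inCell_congr D hD v' [] hv'.wd (Wd.nil D) e3 p hpv')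

end Cfsg.Agent.Lib.Helper5.StChar
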