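import Mathlib
import Cfsg.Agent.Lib.Helper5.StChar.Rules
import Cfsg.Agent.Lib.Helper5.ChevParaNorm
import Cfsg.Prelude.Def_ParabolicCharacters

set_option autoImplicit false

/-!
Fixed points of an element of `B` on the cosets of a standard parabolic subgroup, counted on the
cosets of `B`; the alternating sum defining the Steinberg character.
-/

namespace Cfsg.Agent.Lib.Helper5.StChar

open Cfsg Cfsg.Lie Cfsg.Agent.Lib.Helper5.ChevSym Cfsg.Agent.Lib.Helper5.ChevStruct

variable {F : Type*} [Field F]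

theorem isRed_mul_right (D : ChevalleyDatum) (hD : D ∈ Seven) (J : Set ℕ) (x b : GL D.Idx F)
    (hb : b ∈ D.borelSubgroup F) : IsRed D hD J (x * b) ↔ IsRed D hD J x := by
  constructor
  · rintro ⟨u, hu, hpos, h⟩
    refine ⟨u, hu, hpos, ?_⟩
    have := inCell_mul_right D hD u _ b⁻¹ (inv_mem hb) h
    rwa [mul_inv_cancel_right] at this
  · rintro ⟨u, hu, hpos, h⟩
    exact ⟨u, hu, hpos, inCell_mul_right D hD u x b hb h⟩

theorem isRed_mul_left (D : ChevalleyDatum) (hD : D ∈ Seven) (J : Set ℕ) (x b : GL D.Idx F)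
    (hb : b ∈ D.borelSubgroup F) : IsRed D hD J (b * x) ↔ IsRed D hD J x := by
  constructor
  · rintro ⟨u, hu, hpos, h⟩
    refine ⟨u, hu, hpos, ?_⟩
    have := inCell_mul_left D hD u _ b⁻¹ (inv_mem hb) h
    rwa [inv_mul_cancel_left] at this
  · rintro ⟨u, hu, hpos, h⟩
    exact ⟨u, hu, hpos, inCell_mul_left D hD u x b hb h⟩

theorem isRed_iff_forall (D : ChevalleyDatum) (hD : D ∈ Seven) (J : Set ℕ) (x : GL D.Idx F)
    (hx : x ∈ D.group F) : IsRed D hD J x ↔ ∀ j ∈ J, IsRed D hD {j} x := by
  constructor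
  · rintro ⟨u, hu, hpos, h⟩ j hjJ
    refine ⟨u, hu, fun j' hj' hjj => ?_, h⟩
    rw [Set.mem_singleton_iff] at hjj
    subst hjj
    exact hpos _ hj' hjJ
  · intro hall
    obtain ⟨u, hu, h⟩ := inCell_exists D hD x hx
    refine ⟨u, hu, fun j hj hjJ => ?_, h⟩
    obtain ⟨u', hu', hpos', h'⟩ := hall j hjJ
    have e := inCell_unique D hD u u' hu hu' x h h'
    rw [(wPerm_eq_iff D hD u u' hu hu').1 e _ (simple_lt D hD j hj)]
    exact hpos' j hj rfl

/-- the Borel subgroup inside the Chevalley group -/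
abbrev BIn (D : ChevalleyDatum) (F : Type*) [Field F] : Subgroup ↥(D.group F) :=
  (D.borelSubgroup F).subgroupOf (D.group F)

/-- a standard parabolic subgroup inside the Chevalley group -/
abbrev PIn (D : ChevalleyDatum) (F : Type*) [Field F] (J : Set ℕ) : Subgroup ↥(D.group F) :=
  (D.parabolicSubgroup F J).subgroupOf (D.group F)

/-- the coset `q = xB` lies in a cell minimal modulo `W_J` -/
def RedQ (D : ChevalleyDatum) (hD : D ∈ Seven) (J : Set ℕ) (q : ↥(D.group F) ⧸ BIn D F) : Prop :=
  IsRed D hD J ((Quotient.out q : ↥(D.group F)) : GL D.Idx F)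

theorem redQ_mk (D : ChevalleyDatum) (hD : D ∈ Seven) (J : Set ℕ) (x : ↥(D.group F)) :
    RedQ D hD J (QuotientGroup.mk x : ↥(D.group F) ⧸ BIn D F) ↔
      IsRed D hD J (x : GL D.Idx F) := by
  obtain ⟨h, e⟩ := QuotientGroup.mk_out_eq_mul (BIn D F) x
  unfold RedQ
  rw [e, Subgroup.coe_mul]
  exact isRed_mul_right D hD J _ _ h.2

theorem redQ_iff_forall (D : ChevalleyDatum) (hD : D ∈ Seven) (J : Set ℕ)
    (q : ↥(D.group F) ⧸ BIn D F) : RedQ D hD J q ↔ ∀ j ∈ J, RedQ D hD {j} q :=
  isRed_iff_forall D hD J _ (Quotient.out q : ↥(D.group F)).2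

theorem bIn_le_pIn (D : ChevalleyDatum) (J : Set ℕ) : BIn D F ≤ PIn D F J :=
  fun _ hx => borel_le_parabolic D J hx

/-- the fixed points of `g ∈ B` on `G / P_J` correspond to its fixed points on `G / B` lying in
cells minimal modulo `W_J` -/
theorem card_fixed_para (D : ChevalleyDatum) (hD : D ∈ Seven) (J : Set ℕ) (g : ↥(D.group F))
    (hg : (g : GL D.Idx F) ∈ D.borelSubgroup F) :
    Nat.card (MulAction.fixedBy (↥(D.group F) ⧸ PIn D F J) g) =
      Nat.card {q : ↥(D.group F) ⧸ BIn D F | g • q = q ∧ RedQ D hD J q} := by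
  have hset : MulAction.fixedBy (↥(D.group F) ⧸ PIn D F J) g =
      Subgroup.quotientMapOfLE (bIn_le_pIn D J) ''
        {q : ↥(D.group F) ⧸ BIn D F | g • q = q ∧ RedQ D hD J q} := by
    ext c
    constructor
    · intro hc
      induction c using QuotientGroup.induction_on with
      | H x =>
        rw [MulAction.mem_fixedBy, MulAction.Quotient.smul_mk, smul_eq_mul, QuotientGroup.eq] at hc
        obtain ⟨p, hp, hred⟩ := red_exists D hD J (x : GL D.Idx F) x.2
        set p' : ↥(D.group F) := ⟨p, parabolic_le_group D hD J hp⟩ with hp'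
        have hp'P : p' ∈ PIn D F J := hp
        refine ⟨QuotientGroup.mk (x * p'), ⟨?_, ?_⟩, ?_⟩
        · rw [MulAction.Quotient.smul_mk, smul_eq_mul, QuotientGroup.eq]
          have hpp : (x * p')⁻¹ * (g * (x * p')) ∈ PIn D F J := by
            have e : (x * p')⁻¹ * (g * (x * p')) = p'⁻¹ * ((g * x)⁻¹ * x)⁻¹ * p' := by group
            rw [e]
            exact mul_mem (mul_mem (inv_mem hp'P) (inv_mem hc)) hp'P
          have hB := red_unique D hD J ((x * p' : ↥(D.group F)) : GL D.Idx F)
            (((x * p')⁻¹ * (g * (x * p')) : ↥(D.group F)) : GL D.Idx F) hpp hred (by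
              have e : ((x * p' : ↥(D.group F)) : GL D.Idx F) *
                  (((x * p')⁻¹ * (g * (x * p')) : ↥(D.group F)) : GL D.Idx F)
                  = (g : GL D.Idx F) * ((x : GL D.Idx F) * p) := by
                rw [← Subgroup.coe_mul, mul_inv_cancel_left]
                rfl
              rw [e]
              exact (isRed_mul_left D hD J _ _ hg).2 hred)
          have e2 : (g * (x * p'))⁻¹ * (x * p') = ((x * p')⁻¹ * (g * (x * p')))⁻¹ := by group
          rw [e2]
          exact inv_mem hB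
        · rw [redQ_mk]
          exact hred
        · rw [Subgroup.quotientMapOfLE_apply_mk, QuotientGroup.eq]
          have e : (x * p')⁻¹ * x = p'⁻¹ := by group
          rw [e]
          exact inv_mem hp'P
    · rintro ⟨q, ⟨hq1, -⟩, rfl⟩
      induction q using QuotientGroup.induction_on with
      | H y =>
        rw [MulAction.mem_fixedBy, Subgroup.quotientMapOfLE_apply_mk, MulAction.Quotient.smul_mk]
        have := congrArg (Subgroup.quotientMapOfLE (bIn_le_pIn D J)) hq1
        rw [MulAction.Quotient.smul_mk, Subgroup.quotientMapOfLE_apply_mk,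
          Subgroup.quotientMapOfLE_apply_mk] at this
        exact this
  have hinj : Set.InjOn (Subgroup.quotientMapOfLE (bIn_le_pIn D J))
      {q : ↥(D.group F) ⧸ BIn D F | g • q = q ∧ RedQ D hD J q} := by
    rintro q₁ ⟨-, h1⟩ q₂ ⟨-, h2⟩ he
    induction q₁ using QuotientGroup.induction_on with
    | H y₁ =>
      induction q₂ using QuotientGroup.induction_on with
      | H y₂ =>
        rw [Subgroup.quotientMapOfLE_apply_mk, Subgroup.quotientMapOfLE_apply_mk,
          QuotientGroup.eq] at he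
        rw [redQ_mk] at h1 h2
        rw [QuotientGroup.eq]
        refine red_unique D hD J (y₁ : GL D.Idx F) ((y₁⁻¹ * y₂ : ↥(D.group F)) : GL D.Idx F) he h1 ?_
        have e : (y₁ : GL D.Idx F) * ((y₁⁻¹ * y₂ : ↥(D.group F)) : GL D.Idx F)
            = (y₂ : GL D.Idx F) := by
          rw [← Subgroup.coe_mul, mul_inv_cancel_left]
        rw [e]
        exact h2
  rw [hset, Nat.card_image_of_injOn hinj]

end Cfsg.Agent.Lib.Helper5.StChar
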