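import Mathlib
import Cfsg.Agent.Lib.Helper5.StChar.Count

set_option autoImplicit false

/-!
The alternating sum defining the Steinberg character, at an element of `B`: it counts the fixed
cosets `xB` all of whose simple roots are descents.
-/

namespace Cfsg.Agent.Lib.Helper5.StChar

open Cfsg Cfsg.Lie Cfsg.Agent.Lib.Helper5.ChevSym Cfsg.Agent.Lib.Helper5.ChevStruct

variable {F : Type*} [Field F]

theorem natCard_setOf_eq_sum {α : Type*} [Fintype α] (P : α → Prop) [DecidablePred P] :
    (Nat.card {a : α | P a} : ℂ) = ∑ a : α, if P a then (1 : ℂ) else 0 := by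
  have h1 : Nat.card {a : α | P a} = (Finset.univ.filter P).card := by
    rw [Set.coe_ofPred, Nat.card_eq_fintype_card, Fintype.card_subtype]
  rw [h1, Finset.sum_boole]

theorem steinberg_eq_card (D : ChevalleyDatum) (hD : D ∈ Seven) [Finite F] (g : ↥(D.group F))
    (hg : (g : GL D.Idx F) ∈ D.borelSubgroup F) :
    D.steinbergCharacter F g =
      (Nat.card {q : ↥(D.group F) ⧸ BIn D F | g • q = q ∧
        ∀ j < D.rank, ¬ RedQ D hD {j} q} : ℂ) := by
  classical
  have : Fintype F := Fintype.ofFinite F
  have : Finite (↥(D.group F) ⧸ BIn D F) := Quotient.finite _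
  have : Fintype (↥(D.group F) ⧸ BIn D F) := Fintype.ofFinite _
  unfold ChevalleyDatum.steinbergCharacter fixedPointCharacter ChevalleyDatum.parabolicIn
  set R := Finset.range D.rank with hR
  let asc : ↥(D.group F) ⧸ BIn D F → Finset ℕ := fun q => R.filter (fun j => RedQ D hD {j} q)
  have hterm : ∀ J ∈ R.powerset,
      (-1 : ℂ) ^ J.card * (Nat.card (MulAction.fixedBy (↥(D.group F) ⧸
        (D.parabolicSubgroup F (↑J : Set ℕ)).subgroupOf (D.group F)) g) : ℂ)
      = ∑ q : ↥(D.group F) ⧸ BIn D F,
        (-1 : ℂ) ^ J.card * (if (g • q = q ∧ J ⊆ asc q) then (1 : ℂ) else 0) := by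
    intro J hJ
    rw [Finset.mem_powerset] at hJ
    rw [card_fixed_para D hD (↑J : Set ℕ) g hg, natCard_setOf_eq_sum, Finset.mul_sum]
    apply Finset.sum_congr rfl
    intro q _
    have hiff : RedQ D hD (↑J : Set ℕ) q ↔ J ⊆ asc q := by
      rw [redQ_iff_forall]
      constructor
      · intro h j hj
        exact Finset.mem_filter.2 ⟨hJ hj, h j (Finset.mem_coe.2 hj)⟩
      · intro h j hj
        exact (Finset.mem_filter.1 (h (Finset.mem_coe.1 hj))).2
    simp only [hiff]
  rw [Finset.sum_congr rfl hterm, Finset.sum_comm, natCard_setOf_eq_sum]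
  apply Finset.sum_congr rfl
  intro q _
  by_cases hq : g • q = q
  · simp only [hq, true_and, mul_ite, mul_one, mul_zero]
    rw [← Finset.sum_filter]
    have hf : R.powerset.filter (fun J => J ⊆ asc q) = (asc q).powerset := by
      ext J
      rw [Finset.mem_filter, Finset.mem_powerset, Finset.mem_powerset]
      constructor
      · exact fun h => h.2
      · exact fun h => ⟨h.trans (Finset.filter_subset _ _), h⟩
    rw [hf]
    have h1 := Finset.sum_powerset_neg_one_pow_card (x := asc q)
    have h2 : ∑ m ∈ (asc q).powerset, (-1 : ℂ) ^ m.card = if asc q = ∅ then 1 else 0 := by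
      have := congrArg (Int.cast : ℤ → ℂ) h1
      push_cast at this
      exact this
    rw [h2]
    apply if_congr _ rfl rfl
    rw [Finset.filter_eq_empty_iff]
    constructor
    · intro h j hj
      exact h (Finset.mem_range.2 hj)
    · intro h j hj
      exact h j (Finset.mem_range.1 hj)
  · simp [hq]

end Cfsg.Agent.Lib.Helper5.StChar
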