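import Mathlib
import Cfsg.Agent.Lib.Helper5.StChar.AltSum
import Cfsg.Agent.Lib.Helper5.ChevDiag
import Cfsg.Agent.Lib.Helper5.ChevTwistCore
import Cfsg.Agent.Lib.Helper5.ChevChk.W0All

set_option autoImplicit false

/-!
The big cell `B n₀ B`: its cosets `xB` are those with no ascent, and they correspond to the
cosets of `H` in `B`.
-/

namespace Cfsg.Agent.Lib.Helper5.StChar

open Cfsg Cfsg.Lie Cfsg.Agent.Lib.Helper5.ChevSym Cfsg.Agent.Lib.Helper5.ChevStruct

variable {F : Type*} [Field F]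

theorem checkW0_spec (D : ChevalleyDatum) (w : List ℕ) (h : checkW0 D w = true) :
    Wd D w ∧ (∀ r, D.IsPosRoot r → D.IsNegRoot (wAct D w r)) ∧
      (∀ r, D.IsNegRoot r → D.IsPosRoot (wAct D w.reverse r)) := by
  unfold checkW0 at h
  rw [Bool.and_eq_true, List.all_eq_true, List.all_eq_true] at h
  obtain ⟨hw, hroots⟩ := h
  refine ⟨fun i hi => ?_, fun r hr => ?_, fun r hr => ?_⟩
  · have := hw i hi
    rwa [Nat.blt_eq] at this
  · have := hroots r (List.mem_range.2 hr.1)
    rw [Bool.and_eq_true, Bool.or_eq_true, Bool.or_eq_true, wActC_eq, wActC_eq] at this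
    rcases this.1 with h1 | h1
    · simp [hr] at h1
    · exact of_decide_eq_true h1
  · have := hroots r (List.mem_range.2 hr.1)
    rw [Bool.and_eq_true, Bool.or_eq_true, Bool.or_eq_true, wActC_eq, wActC_eq] at this
    rcases this.2 with h1 | h1
    · simp [hr] at h1
    · exact of_decide_eq_true h1

theorem not_pos_of_neg (D : ChevalleyDatum) (hD : D ∈ Seven) (r : ℕ) (hn : D.IsNegRoot r) :
    ¬ D.IsPosRoot r := by
  intro hp
  have h1 := (isPosRoot_iff_co D hD r).1 hp
  have h2 := (isNegRoot_iff_co D hD r).1 hn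
  obtain ⟨k, hk, hne⟩ := exists_co_ne_zero D hD r h1.1
  exact hne (le_antisymm (h2.2 k hk) (h1.2 k hk))

/-- a word making all the simple roots negative is the longest element -/
theorem wPerm_eq_w0 (D : ChevalleyDatum) (hD : D ∈ Seven) (w : List ℕ) (h : checkW0 D w = true)
    (u : List ℕ) (hu : Wd D u) (hneg : ∀ j < D.rank, ¬ D.IsPosRoot (wAct D u (D.simple j))) :
    wPerm D hD u = wPerm D hD w.reverse := by
  obtain ⟨hw, hpos0, -⟩ := checkW0_spec D w h
  have hcard : (negSet D (u ++ w)).card = 0 := by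
    rw [Finset.card_eq_zero, Finset.eq_empty_iff_forall_notMem]
    intro r hr
    rw [mem_negSet] at hr
    apply hr.2
    rw [wAct_append]
    have ht := hpos0 r hr.1
    have ht' := (isNegRoot_iff_co D hD _).1 ht
    rw [isPosRoot_iff_co D hD]
    refine ⟨wAct_lt D hD u hu _ ht'.1, fun k hk => ?_⟩
    rw [co_wAct_eq_sum D hD u hu _ ht'.1 k hk]
    apply Finset.sum_nonneg
    intro j hj
    have hj' := Finset.mem_range.1 hj
    have hn := isNegRoot_of_not_pos D hD _ (wAct_lt D hD u hu _ (simple_lt D hD j hj')) (hneg j hj')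
    exact mul_nonneg_of_nonpos_of_nonpos (ht'.2 j hj') (((isNegRoot_iff_co D hD _).1 hn).2 k hk)
  have h1 := wPerm_eq_one_of_card D hD (u ++ w) (hu.append hw) hcard
  rw [wPerm_append] at h1
  rw [wPerm_reverse D hD w hw]
  exact eq_inv_of_mul_eq_one_left h1

/-- the longest element makes all the simple roots negative -/
theorem w0_simple_neg (D : ChevalleyDatum) (hD : D ∈ Seven) (w : List ℕ) (h : checkW0 D w = true)
    (j : ℕ) (hj : j < D.rank) : ¬ D.IsPosRoot (wAct D w.reverse (D.simple j)) := by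
  obtain ⟨hw, hpos0, -⟩ := checkW0_spec D w h
  intro hp
  have h1 := hpos0 _ hp
  rw [wAct_reverse D hD w hw _ (simple_lt D hD j hj)] at h1
  exact not_pos_of_neg D hD _ h1 (simple_pos D hD j hj)

/-- `n₀ B n₀⁻¹ ∩ B = H` -/
theorem conj_w0_borel (D : ChevalleyDatum) (hD : D ∈ Seven) (w : List ℕ) (h : checkW0 D w = true)
    (c : GL D.Idx F) (hc : c ∈ D.borelSubgroup F)
    (hc' : wGL D hD w * c * (wGL D hD w)⁻¹ ∈ D.borelSubgroup F) : c ∈ D.diagonalSubgroup F := by
  obtain ⟨hw, hmap⟩ := conj_pos_eq_neg' (K := F) D hD w h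
  have hN := wGL_mem (F := F) D hD w hw
  have h1 : wGL D hD w * c * (wGL D hD w)⁻¹ ∈ D.negUnipotent F ⊔ D.diagonalSubgroup F := by
    have h2 : (MulAut.conj (wGL D hD w)).toMonoidHom c ∈
        (D.borelSubgroup F).map (MulAut.conj (wGL D hD w)).toMonoidHom :=
      Subgroup.mem_map_of_mem _ hc
    unfold ChevalleyDatum.borelSubgroup at h2
    rw [Subgroup.map_sup, hmap] at h2
    have hle : D.negUnipotent F ⊔
        (D.diagonalSubgroup F).map (MulAut.conj (wGL D hD w)).toMonoidHom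
        ≤ D.negUnipotent F ⊔ D.diagonalSubgroup F := by
      apply sup_le_sup_left
      rintro _ ⟨t, ht, rfl⟩
      exact (conj_monomial_diag_mem D hD _ hN t ht).1
    exact hle h2
  have h3 : wGL D hD w * c * (wGL D hD w)⁻¹ ∈ D.diagonalSubgroup F := by
    rw [← borel_inf_negBorel (F := F) D hD]
    exact ⟨hc', h1⟩
  have h4 := (conj_monomial_diag_mem D hD _ hN _ h3).2
  have e : (wGL D hD w)⁻¹ * (wGL D hD w * c * (wGL D hD w)⁻¹) * wGL D hD w = c := by group
  rw [e] at h4
  exact h4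

end Cfsg.Agent.Lib.Helper5.StChar
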