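import Mathlib
import Cfsg.Agent.Lib.Helper5.ChevWPerm
import Cfsg.Agent.Lib.Helper5.ChevWCox
import Cfsg.Agent.Lib.Helper5.ChevWCount

set_option autoImplicit false

/-!
Distinguished representatives of the double cosets `W_J \ W / W_K` of the Weyl group: a double
coset contains at most one element `d` with `d⁻¹(p_j) > 0` for `j ∈ J` and `d(p_k) > 0` for
`k ∈ K`.
-/

namespace Cfsg.Agent.Lib.Helper5.StChar

open Cfsg Cfsg.Lie Cfsg.Agent.Lib.Helper5.ChevSym Cfsg.Agent.Lib.Helper5.ChevStruct

/-- `w⁻¹ w = 1` on roots -/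
theorem wAct_reverse_left (D : ChevalleyDatum) (hD : D ∈ Seven) (w : List ℕ) (hw : Wd D w)
    (r : ℕ) (hr : r < D.nroots) : wAct D w.reverse (wAct D w r) = r := by
  have := wAct_reverse D hD w.reverse hw.reverse r hr
  rwa [List.reverse_reverse] at this

/-- the length of the inverse is at least the length -/
theorem card_negSet_le_reverse (D : ChevalleyDatum) (hD : D ∈ Seven) (w : List ℕ) (hw : Wd D w) :
    (negSet D w).card ≤ (negSet D w.reverse).card := by
  apply Finset.card_le_card_of_injOn (fun r => D.neg (wAct D w r))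
  · intro r hr
    rw [Finset.mem_coe, mem_negSet] at hr
    rw [Finset.mem_coe, mem_negSet]
    have hlt := wAct_lt D hD w hw r hr.1.1
    refine ⟨pos_neg_of_not_pos D hD _ hlt hr.2, ?_⟩
    rw [wAct_neg D hD w.reverse hw.reverse _ hlt, wAct_reverse_left D hD w hw r hr.1.1]
    exact not_pos_neg D hD r hr.1
  · intro r hr s hs h
    rw [Finset.mem_coe, mem_negSet] at hr hs
    have hr' := wAct_lt D hD w hw r hr.1.1
    have hs' := wAct_lt D hD w hw s hs.1.1
    have h2 : wAct D w r = wAct D w s := by
      have := congrArg D.neg h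
      simp only at this
      rwa [(neg_lt D hD _ hr').2.2, (neg_lt D hD _ hs').2.2] at this
    exact wAct_injective D hD w hw r s hr.1.1 hs.1.1 h2

theorem card_negSet_reverse (D : ChevalleyDatum) (hD : D ∈ Seven) (w : List ℕ) (hw : Wd D w) :
    (negSet D w.reverse).card = (negSet D w).card := by
  apply le_antisymm
  · have := card_negSet_le_reverse D hD w.reverse hw.reverse
    rwa [List.reverse_reverse] at this
  · exact card_negSet_le_reverse D hD w hw

/-- two words with conjugate simple reflections: `y s_j = s_a y` when `y(p_j) = p_a` -/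
theorem wPerm_braid (D : ChevalleyDatum) (hD : D ∈ Seven) (y : List ℕ) (hy : Wd D y) (j a : ℕ)
    (hj : j < D.rank) (ha : a < D.rank) (h : wAct D y (D.simple j) = D.simple a) :
    wPerm D hD y * sPerm D hD j = sPerm D hD a * wPerm D hD y := by
  have := wPerm_of_wrel D hD _ _ (WRel.braid y j a hy hj ha h)
  rwa [wPerm_append, wPerm_single, wPerm_cons] at this

/-- the reflection in a root does not depend on the way the root is written -/
theorem refl_conj_eq (D : ChevalleyDatum) (hD : D ∈ Seven) (u l : List ℕ) (hu : Wd D u)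
    (hl : Wd D l) (k c : ℕ) (hk : k < D.rank) (hc : c < D.rank)
    (h : wAct D l (D.simple c) = wAct D u (D.simple k)) :
    wPerm D hD u * sPerm D hD k * (wPerm D hD u)⁻¹ =
      wPerm D hD l * sPerm D hD c * (wPerm D hD l)⁻¹ := by
  have h1 : wAct D (l.reverse ++ u) (D.simple k) = D.simple c := by
    rw [wAct_append, ← h, wAct_reverse_left D hD l hl _ (simple_lt D hD c hc)]
  have h2 := wPerm_braid D hD (l.reverse ++ u) (hl.reverse.append hu) k c hk hc h1
  rw [wPerm_append, wPerm_reverse D hD l hl] at h2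
  -- `l⁻¹ u s_k = s_c l⁻¹ u`
  have h3 : wPerm D hD u * sPerm D hD k
      = wPerm D hD l * sPerm D hD c * ((wPerm D hD l)⁻¹ * wPerm D hD u) := by
    calc wPerm D hD u * sPerm D hD k
        = wPerm D hD l * ((wPerm D hD l)⁻¹ * wPerm D hD u * sPerm D hD k) := by group
      _ = wPerm D hD l * (sPerm D hD c * ((wPerm D hD l)⁻¹ * wPerm D hD u)) := by rw [h2]
      _ = _ := by group
  rw [h3]
  group

/-- the exchange condition: if `a(γ) < 0` for the positive root `γ = u(p_k)`, then `a s_γ` is `a`
with a letter deleted -/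
theorem exchange_perm (D : ChevalleyDatum) (hD : D ∈ Seven) (J : Set ℕ) (a : List ℕ)
    (ha : WdIn D J a) (u : List ℕ) (hu : Wd D u) (k : ℕ) (hk : k < D.rank)
    (hpos : D.IsPosRoot (wAct D u (D.simple k)))
    (hneg : ¬ D.IsPosRoot (wAct D a (wAct D u (D.simple k)))) :
    ∃ a' : List ℕ, WdIn D J a' ∧
      wPerm D hD a' = wPerm D hD a * (wPerm D hD u * sPerm D hD k * (wPerm D hD u)⁻¹) := by
  obtain ⟨l1, c, l2, e, hγ⟩ := exchange_pos D hD a.reverse ha.wd.reverse _ hpos
    (by rw [List.reverse_reverse]; exact hneg)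
  have ea : a = l2.reverse ++ [c] ++ l1.reverse := by
    have := congrArg List.reverse e
    rw [List.reverse_reverse, List.reverse_append, List.reverse_cons] at this
    exact this
  have hall : WdIn D J (l2.reverse ++ [c] ++ l1.reverse) := ea ▸ ha
  have hl2 : WdIn D J l2.reverse := hall.left.left
  have hc : WdIn D J [c] := hall.left.right
  have hl1 : WdIn D J l1.reverse := hall.right
  have hl1' : Wd D l1 := by
    have := hl1.wd.reverse
    rwa [List.reverse_reverse] at this
  have hcr : c < D.rank := (hc c (by simp)).1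
  refine ⟨l2.reverse ++ l1.reverse, hl2.append hl1, ?_⟩
  rw [refl_conj_eq D hD u l1 hu hl1' k c hk hcr hγ, ea, wPerm_append, wPerm_append, wPerm_append,
    wPerm_single, wPerm_reverse D hD l1 hl1']
  have hsq := sPerm_mul_self D hD c hcr
  calc wPerm D hD l2.reverse * (wPerm D hD l1)⁻¹
      = wPerm D hD l2.reverse * (sPerm D hD c * sPerm D hD c) * (wPerm D hD l1)⁻¹ := by
        rw [hsq, mul_one]
    _ = _ := by group

/-- membership in `^J W ∩ W^K`, for words -/
def IsDist (D : ChevalleyDatum) (J K : Set ℕ) (d : List ℕ) : Prop :=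
  (∀ j < D.rank, j ∈ J → D.IsPosRoot (wAct D d.reverse (D.simple j))) ∧
    (∀ k < D.rank, k ∈ K → D.IsPosRoot (wAct D d (D.simple k)))

/-- a nontrivial element of `W_K` has a descent in `K` -/
theorem exists_descent (D : ChevalleyDatum) (hD : D ∈ Seven) (K : Set ℕ) (b : List ℕ)
    (hb : WdIn D K b) (hcard : (negSet D b).card ≠ 0) :
    ∃ k < D.rank, k ∈ K ∧ ¬ D.IsPosRoot (wAct D b (D.simple k)) := by
  by_contra hcon
  push Not at hcon
  have h1 : wPerm D hD b = wPerm D hD [] := by
    apply para_min_unique D hD K b [] hb.wd (Wd.nil D) hcon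
    · intro j hj _
      exact simple_pos D hD j hj
    · rw [wPerm_nil, mul_one]
      exact inv_mem (wPerm_mem_parab D hD K b hb)
  apply hcard
  rw [negSet_congr D b [] ((wPerm_eq_iff D hD b [] hb.wd (Wd.nil D)).1 h1), negSet_nil,
    Finset.card_empty]

theorem dist_unique_aux (D : ChevalleyDatum) (hD : D ∈ Seven) (J K : Set ℕ) (d d' : List ℕ)
    (hd : Wd D d) (hd' : Wd D d') (hdist : IsDist D J K d) (hdist' : IsDist D J K d') :
    ∀ n : ℕ, ∀ a b : List ℕ, WdIn D J a → WdIn D K b → (negSet D b).card = n →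
      wPerm D hD d' = wPerm D hD a * wPerm D hD d * wPerm D hD b →
      wPerm D hD d' = wPerm D hD d := by
  intro n
  induction n with
  | zero =>
    intro a b ha hb hn e
    have hb1 := wPerm_eq_one_of_card D hD b hb.wd hn
    rw [hb1, mul_one] at e
    have h1 : wPerm D hD d.reverse = wPerm D hD d'.reverse := by
      apply para_min_unique D hD J d.reverse d'.reverse hd.reverse hd'.reverse hdist.1 hdist'.1
      rw [wPerm_reverse D hD d hd, wPerm_reverse D hD d' hd', e, inv_inv, mul_inv_rev,
        mul_inv_cancel_left]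
      exact inv_mem (wPerm_mem_parab D hD J a ha)
    rw [wPerm_reverse D hD d hd, wPerm_reverse D hD d' hd'] at h1
    exact (inv_injective h1).symm
  | succ n ih =>
    intro a b ha hb hn e
    obtain ⟨k, hk, hkK, hneg⟩ := exists_descent D hD K b hb (by omega)
    have hcard := card_negSet_append D hD b hb.wd k hk hneg
    have hb₁ : WdIn D K (b ++ [k]) := hb.append (WdIn.single hk hkK)
    have hklt := simple_lt D hD k hk
    -- `β = b₁(p_k)` is a positive root of `Φ_K`
    have hβ : D.IsPosRoot (wAct D (b ++ [k]) (D.simple k)) := by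
      rw [wAct_append_single, reflectRoot_simple, wAct_neg D hD b hb.wd _ hklt]
      exact pos_neg_of_not_pos D hD _ (wAct_lt D hD b hb.wd _ hklt) hneg
    have hβJ : D.InRootSub K (wAct D (b ++ [k]) (D.simple k)) :=
      inRootSub_wAct D hD K _ hb₁ _ (inRootSub_simple D hD K k hk hkK)
    have hγ : D.IsPosRoot (wAct D (d ++ (b ++ [k])) (D.simple k)) := by
      rw [wAct_append]
      exact (wAct_sign_of_para D hD K d hd hdist.2 _ hβJ).2 hβ
    -- `a(γ) < 0`
    have hb_eq : wPerm D hD b = wPerm D hD (b ++ [k]) * sPerm D hD k := by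
      rw [wPerm_append, wPerm_single, mul_assoc, sPerm_mul_self D hD k hk, mul_one]
    have hu : Wd D (d ++ (b ++ [k])) := hd.append hb₁.wd
    have hnegγ : ¬ D.IsPosRoot (wAct D a (wAct D (d ++ (b ++ [k])) (D.simple k))) := by
      intro hp
      have e2 : wPerm D hD d' = wPerm D hD (a ++ (d ++ (b ++ [k])) ++ [k]) := by
        rw [e]
        simp only [wPerm_append, wPerm_single]
        have hsq := sPerm_mul_self D hD k hk
        rw [show wPerm D hD a * wPerm D hD d * wPerm D hD b
          = wPerm D hD a * wPerm D hD d * wPerm D hD b * (sPerm D hD k * sPerm D hD k) by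
            rw [hsq, mul_one]]
        group
      have hact := (wPerm_eq_iff D hD d' _ hd' ((ha.wd.append hu).append (Wd.single hk))).1 e2
        _ hklt
      have hp' := hdist'.2 k hk hkK
      rw [hact, wAct_append_single, reflectRoot_simple,
        wAct_neg D hD _ (ha.wd.append hu) _ hklt, wAct_append] at hp'
      exact not_pos_neg D hD _ hp hp'
    obtain ⟨a', ha', ea'⟩ := exchange_perm D hD J a ha (d ++ (b ++ [k])) hu k hk hγ hnegγ
    apply ih a' (b ++ [k]) ha' hb₁ (by omega)
    rw [ea', wPerm_append D hD d (b ++ [k]), e, hb_eq]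
    group

/-- a double coset `W_J d W_K` contains at most one distinguished element -/
theorem dist_unique (D : ChevalleyDatum) (hD : D ∈ Seven) (J K : Set ℕ) (d d' : List ℕ)
    (hd : Wd D d) (hd' : Wd D d') (hdist : IsDist D J K d) (hdist' : IsDist D J K d')
    (a b : List ℕ) (ha : WdIn D J a) (hb : WdIn D K b)
    (e : wPerm D hD d' = wPerm D hD a * wPerm D hD d * wPerm D hD b) :
    wPerm D hD d' = wPerm D hD d :=
  dist_unique_aux D hD J K d d' hd hd' hdist hdist' _ a b ha hb rfl e

end Cfsg.Agent.Lib.Helper5.StChar
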