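import Mathlib
import Cfsg.Agent.Lib.Helper5.StChar.W0Cell

set_option autoImplicit false

/-!
The restriction of the Steinberg character to `B` is the permutation character on `B / H`.
-/

namespace Cfsg.Agent.Lib.Helper5.StChar

open Cfsg Cfsg.Lie Cfsg.Agent.Lib.Helper5.ChevSym Cfsg.Agent.Lib.Helper5.ChevStruct

variable {F : Type*} [Field F]

/-- the diagonal subgroup inside `B` -/
abbrev HIn (D : ChevalleyDatum) (F : Type*) [Field F] : Subgroup ↥(BIn D F) :=
  ((D.diagonalSubgroup F).subgroupOf (D.group F)).subgroupOf (BIn D F)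

/-- `n₀⁻¹` as an element of the group -/
def m0 (D : ChevalleyDatum) (hD : D ∈ Seven) (w : List ℕ) (hw : Wd D w) : ↥(D.group F) :=
  ⟨(wGL D hD w)⁻¹, inv_mem (monomial_le_group D hD (wGL_mem D hD w hw))⟩

theorem coe_m0 (D : ChevalleyDatum) (hD : D ∈ Seven) (w : List ℕ) (hw : Wd D w) :
    ((m0 D hD w hw : ↥(D.group F)) : GL D.Idx F) = (wGL D hD w)⁻¹ := rfl

theorem coe_bIn_mem (D : ChevalleyDatum) (z : ↥(BIn D F)) :
    ((z : ↥(D.group F)) : GL D.Idx F) ∈ D.borelSubgroup F := z.2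

/-- `xH ↦ x n₀⁻¹ B` -/
def psi (D : ChevalleyDatum) (hD : D ∈ Seven) (w : List ℕ) (hw : Wd D w) :
    ↥(BIn D F) ⧸ HIn D F → ↥(D.group F) ⧸ BIn D F :=
  Quotient.map' (fun x => (x : ↥(D.group F)) * m0 D hD w hw) (by
    intro x y hxy
    rw [QuotientGroup.leftRel_apply] at hxy ⊢
    have hN := wGL_mem (F := F) D hD w hw
    have hc : (((x⁻¹ * y : ↥(BIn D F)) : ↥(D.group F)) : GL D.Idx F) ∈ D.diagonalSubgroup F := hxy
    have h1 := (conj_monomial_diag_mem D hD _ hN _ hc).1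
    have e : ((x : ↥(D.group F)) * m0 D hD w hw)⁻¹ * ((y : ↥(D.group F)) * m0 D hD w hw)
        = (m0 D hD w hw)⁻¹ * ((x⁻¹ * y : ↥(BIn D F)) : ↥(D.group F)) * m0 D hD w hw := by
      rw [Subgroup.coe_mul, Subgroup.coe_inv]
      group
    rw [e]
    change (((m0 D hD w hw)⁻¹ * ((x⁻¹ * y : ↥(BIn D F)) : ↥(D.group F)) * m0 D hD w hw :
      ↥(D.group F)) : GL D.Idx F) ∈ D.borelSubgroup F
    rw [Subgroup.coe_mul, Subgroup.coe_mul, Subgroup.coe_inv, coe_m0, inv_inv]
    exact diagonal_le_borel D h1)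

theorem psi_mk (D : ChevalleyDatum) (hD : D ∈ Seven) (w : List ℕ) (hw : Wd D w)
    (x : ↥(BIn D F)) :
    psi D hD w hw (QuotientGroup.mk x) = QuotientGroup.mk ((x : ↥(D.group F)) * m0 D hD w hw) :=
  rfl

theorem psi_injective (D : ChevalleyDatum) (hD : D ∈ Seven) (w : List ℕ)
    (h : checkW0 D w = true) (hw : Wd D w) : Function.Injective (psi (F := F) D hD w hw) := by
  intro c₁ c₂ he
  induction c₁ using QuotientGroup.induction_on with
  | H x =>
    induction c₂ using QuotientGroup.induction_on with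
    | H y =>
      rw [psi_mk, psi_mk, QuotientGroup.eq] at he
      rw [QuotientGroup.eq]
      have e : ((x : ↥(D.group F)) * m0 D hD w hw)⁻¹ * ((y : ↥(D.group F)) * m0 D hD w hw)
          = (m0 D hD w hw)⁻¹ * ((x⁻¹ * y : ↥(BIn D F)) : ↥(D.group F)) * m0 D hD w hw := by
        rw [Subgroup.coe_mul, Subgroup.coe_inv]
        group
      rw [e] at he
      have he' : (((m0 D hD w hw)⁻¹ * ((x⁻¹ * y : ↥(BIn D F)) : ↥(D.group F)) * m0 D hD w hw :
          ↥(D.group F)) : GL D.Idx F) ∈ D.borelSubgroup F := he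
      rw [Subgroup.coe_mul, Subgroup.coe_mul, Subgroup.coe_inv, coe_m0, inv_inv] at he'
      exact conj_w0_borel D hD w h _ (coe_bIn_mem D (x⁻¹ * y)) he'

set_option synthInstance.maxHeartbeats 400000 in
theorem psi_smul (D : ChevalleyDatum) (hD : D ∈ Seven) (w : List ℕ) (hw : Wd D w)
    (b : ↥(BIn D F)) (c : ↥(BIn D F) ⧸ HIn D F) :
    psi D hD w hw (b • c) = (b : ↥(D.group F)) • psi D hD w hw c := by
  induction c using QuotientGroup.induction_on with
  | H x =>
    rw [MulAction.Quotient.smul_mk, smul_eq_mul, psi_mk, psi_mk, MulAction.Quotient.smul_mk,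
      smul_eq_mul, Subgroup.coe_mul, mul_assoc]

theorem psi_range (D : ChevalleyDatum) (hD : D ∈ Seven) (w : List ℕ) (h : checkW0 D w = true)
    (hw : Wd D w) (q : ↥(D.group F) ⧸ BIn D F) :
    (∃ c, psi D hD w hw c = q) ↔ ∀ j < D.rank, ¬ RedQ D hD {j} q := by
  obtain ⟨t, ht, einv⟩ := wGL_inv (F := F) D hD w hw
  constructor
  · rintro ⟨c, rfl⟩ j hj hred
    induction c using QuotientGroup.induction_on with
    | H x =>
      rw [psi_mk, redQ_mk, Subgroup.coe_mul, coe_m0] at hred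
      obtain ⟨u, hu, hpos, hcell⟩ := hred
      have hcell' : InCell D hD w.reverse
          (((x : ↥(D.group F)) : GL D.Idx F) * (wGL D hD w)⁻¹) := by
        refine ⟨_, coe_bIn_mem D x, t, diagonal_le_borel D ht, ?_⟩
        rw [einv]
        group
      have e := inCell_unique D hD u w.reverse hu hw.reverse _ hcell hcell'
      have hp := hpos j hj rfl
      rw [(wPerm_eq_iff D hD u w.reverse hu hw.reverse).1 e _ (simple_lt D hD j hj)] at hp
      exact w0_simple_neg D hD w h j hj hp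
  · intro hq
    induction q using QuotientGroup.induction_on with
    | H y =>
      obtain ⟨u, hu, hcell⟩ := inCell_exists D hD (y : GL D.Idx F) y.2
      have hneg : ∀ j < D.rank, ¬ D.IsPosRoot (wAct D u (D.simple j)) := by
        intro j hj hp
        apply hq j hj
        rw [redQ_mk]
        refine ⟨u, hu, fun j' _ hjj => ?_, hcell⟩
        rw [Set.mem_singleton_iff] at hjj
        subst hjj
        exact hp
      have e := wPerm_eq_w0 D hD w h u hu hneg
      obtain ⟨b₁, hb₁, b₂, hb₂, ey⟩ := inCell_congr D hD u w.reverse hu hw.reverse e _ hcell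
      have e2 : (wGL D hD w.reverse : GL D.Idx F) = (wGL D hD w)⁻¹ * t⁻¹ := by
        rw [einv]
        group
      refine ⟨QuotientGroup.mk ⟨⟨b₁, borel_le_group D hD hb₁⟩, hb₁⟩, ?_⟩
      rw [psi_mk, QuotientGroup.eq]
      change ((((⟨⟨b₁, borel_le_group D hD hb₁⟩, hb₁⟩ : ↥(BIn D F)) : ↥(D.group F)) *
        m0 D hD w hw)⁻¹ * y : ↥(D.group F)) ∈ BIn D F
      rw [Subgroup.mem_subgroupOf, Subgroup.coe_mul, Subgroup.coe_inv, Subgroup.coe_mul, coe_m0,
        ey, e2]
      have e3 : (b₁ * (wGL D hD w)⁻¹)⁻¹ * (b₁ * ((wGL D hD w)⁻¹ * t⁻¹) * b₂) = t⁻¹ * b₂ := by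
        group
      change (b₁ * (wGL D hD w)⁻¹)⁻¹ * (b₁ * ((wGL D hD w)⁻¹ * t⁻¹) * b₂) ∈ D.borelSubgroup F
      rw [e3]
      exact mul_mem (inv_mem (diagonal_le_borel D ht)) hb₂

theorem card_fixed_w0 (D : ChevalleyDatum) (hD : D ∈ Seven) (w : List ℕ) (h : checkW0 D w = true)
    (b : ↥(BIn D F)) :
    Nat.card {q : ↥(D.group F) ⧸ BIn D F | (b : ↥(D.group F)) • q = q ∧
        ∀ j < D.rank, ¬ RedQ D hD {j} q} =
      Nat.card (MulAction.fixedBy (↥(BIn D F) ⧸ HIn D F) b) := by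
  have hw := (checkW0_spec D w h).1
  have hset : {q : ↥(D.group F) ⧸ BIn D F | (b : ↥(D.group F)) • q = q ∧
      ∀ j < D.rank, ¬ RedQ D hD {j} q} =
      psi D hD w hw '' MulAction.fixedBy (↥(BIn D F) ⧸ HIn D F) b := by
    ext q
    constructor
    · rintro ⟨hq1, hq2⟩
      obtain ⟨c, rfl⟩ := (psi_range D hD w h hw q).2 hq2
      refine ⟨c, ?_, rfl⟩
      rw [MulAction.mem_fixedBy]
      apply psi_injective D hD w h hw
      rw [psi_smul]
      exact hq1
    · rintro ⟨c, hc, rfl⟩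
      rw [MulAction.mem_fixedBy] at hc
      refine ⟨?_, (psi_range D hD w h hw _).1 ⟨c, rfl⟩⟩
      rw [← psi_smul, hc]
  rw [hset, Nat.card_image_of_injective (psi_injective D hD w h hw)]

/-- the restriction of the Steinberg character to `B` -/
theorem steinberg_restrict_borel (D : ChevalleyDatum) (hD : D ∈ Seven) [Finite F]
    (b : ↥(BIn D F)) :
    D.steinbergCharacter F ((BIn D F).subtype b) = fixedPointCharacter (HIn D F) b := by
  obtain ⟨w, hw⟩ := exists_w0 D hD
  rw [Subgroup.coe_subtype, steinberg_eq_card D hD (b : ↥(D.group F)) (coe_bIn_mem D b),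
    card_fixed_w0 D hD w hw b]
  rfl

end Cfsg.Agent.Lib.Helper5.StChar
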