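import Mathlib
import Cfsg.Agent.Lib.Helper5.StChar.Main
import Cfsg.Agent.Lib.Helper5.ChevUCard

set_option autoImplicit false

/-!
The degree of the Steinberg character is the order of `U`.
-/

namespace Cfsg.Agent.Lib.Helper5.StChar

open Cfsg Cfsg.Lie Cfsg.Agent.Lib.Helper5.ChevSym Cfsg.Agent.Lib.Helper5.ChevStruct

variable {F : Type*} [Field F]

theorem card_bIn (D : ChevalleyDatum) (hD : D ∈ Seven) :
    Nat.card ↥(BIn D F) = Nat.card ↥(D.borelSubgroup F) :=
  Nat.card_congr (Subgroup.subgroupOfEquivOfLe (borel_le_group D hD)).toEquiv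

theorem card_hIn (D : ChevalleyDatum) (hD : D ∈ Seven) :
    Nat.card ↥(HIn D F) = Nat.card ↥(D.diagonalSubgroup F) := by
  have hle : (D.diagonalSubgroup F).subgroupOf (D.group F) ≤ BIn D F :=
    fun _ hx => diagonal_le_borel D hx
  rw [Nat.card_congr (Subgroup.subgroupOfEquivOfLe hle).toEquiv]
  exact Nat.card_congr (Subgroup.subgroupOfEquivOfLe (diagonal_le_group D hD)).toEquiv

set_option synthInstance.maxHeartbeats 400000 in
theorem steinberg_degree (D : ChevalleyDatum) (hD : D ∈ Seven) [Fintype F] :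
    D.steinbergCharacter F 1 = (Fintype.card F : ℂ) ^ (D.nroots / 2) := by
  have h1 := steinberg_restrict_borel (F := F) D hD (1 : ↥(BIn D F))
  rw [map_one] at h1
  rw [h1]
  unfold fixedPointCharacter
  have h2 : MulAction.fixedBy (↥(BIn D F) ⧸ HIn D F) (1 : ↥(BIn D F)) = Set.univ := by
    ext q
    simp
  rw [h2, Nat.card_congr (Equiv.Set.univ _)]
  have h3 : Nat.card (↥(BIn D F) ⧸ HIn D F) = (HIn D F).index := rfl
  have h4 := Subgroup.card_mul_index (HIn D F)
  rw [card_hIn D hD, card_bIn D hD, card_borel D hD, card_posUnipotent D hD, mul_comm] at h4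
  have hpos : 0 < Nat.card ↥(D.diagonalSubgroup F) := Nat.card_pos
  have h5 := Nat.eq_of_mul_eq_mul_right hpos h4
  rw [h3, h5]
  push_cast
  rfl

end Cfsg.Agent.Lib.Helper5.StChar
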