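import Mathlib
import Cfsg.Agent.Lib.Helper5.StChar.DoubleCox
import Cfsg.Agent.Lib.Helper5.StChar.Count

set_option autoImplicit false

/-!
The double cosets `P_J \ G / P_K` of a Chevalley group correspond to the distinguished elements
of the Weyl group.
-/

namespace Cfsg.Agent.Lib.Helper5.StChar

open Cfsg Cfsg.Lie Cfsg.Agent.Lib.Helper5.ChevSym Cfsg.Agent.Lib.Helper5.ChevStruct

variable {F : Type*} [Field F]

/-- multiplying a cell by an element of a parabolic subgroup on the right (weak form) -/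
theorem inCell_mul_para (D : ChevalleyDatum) (hD : D ∈ Seven) (J : Set ℕ) (u : List ℕ)
    (hu : Wd D u) (x : GL D.Idx F) (hx : InCell D hD u x) (p : GL D.Idx F)
    (hp : p ∈ D.parabolicSubgroup F J) : ∃ v : List ℕ, WdIn D J v ∧ InCell D hD (u ++ v) (x * p) := by
  have hcl : D.parabolicSubgroup F J = Subgroup.closure ((D.borelSubgroup F : Set (GL D.Idx F)) ∪
      {g | ∃ j ∈ J, j < D.rank ∧ (g : Matrix D.Idx D.Idx F) = D.nMat F (D.simple j) 1}) := by
    unfold ChevalleyDatum.parabolicSubgroup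
    rw [Subgroup.closure_union, Subgroup.closure_eq]
  rw [hcl] at hp
  have hgen : ∀ y : GL D.Idx F, (y ∈ (D.borelSubgroup F : Set (GL D.Idx F)) ∪
      {g | ∃ j ∈ J, j < D.rank ∧ (g : Matrix D.Idx D.Idx F) = D.nMat F (D.simple j) 1}) →
      y ∈ D.borelSubgroup F ∨ ∃ j ∈ J, j < D.rank ∧ y = nGL D hD j := by
    rintro y (hy | ⟨j, hjJ, hj, hy⟩)
    · exact Or.inl hy
    · refine Or.inr ⟨j, hjJ, hj, ?_⟩
      apply Units.ext
      rw [hy, nGL_val]
  induction hp using Subgroup.closure_induction_right with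
  | one => exact ⟨[], WdIn.nil D J, by rwa [mul_one, List.append_nil]⟩
  | mul_right p hp y hy ih =>
    obtain ⟨v, hv, hxv⟩ := ih
    rw [← mul_assoc]
    rcases hgen y hy with hyB | ⟨j, hjJ, hj, rfl⟩
    · exact ⟨v, hv, inCell_mul_right D hD _ _ y hyB hxv⟩
    · rcases inCell_mul_nGL D hD (u ++ v) (hu.append hv.wd) j hj _ hxv with h | h
      · rw [List.append_assoc] at h
        exact ⟨v ++ [j], hv.append (WdIn.single hj hjJ), h⟩
      · exact ⟨v, hv, h⟩
  | mul_inv_cancel p hp y hy ih =>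
    obtain ⟨v, hv, hxv⟩ := ih
    rw [← mul_assoc]
    rcases hgen y hy with hyB | ⟨j, hjJ, hj, rfl⟩
    · exact ⟨v, hv, inCell_mul_right D hD _ _ y⁻¹ (inv_mem hyB) hxv⟩
    · have ht := (nGL_sq_mem (F := F) D hD j hj).2
      have e : x * p * (nGL D hD j)⁻¹
          = x * p * nGL D hD j * ((nGL D hD j)⁻¹ * (nGL D hD j)⁻¹) := by group
      rw [e]
      rcases inCell_mul_nGL D hD (u ++ v) (hu.append hv.wd) j hj _ hxv with h | h
      · rw [List.append_assoc] at h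
        exact ⟨v ++ [j], hv.append (WdIn.single hj hjJ),
          inCell_mul_right D hD _ _ _ (diagonal_le_borel D ht) h⟩
      · exact ⟨v, hv, inCell_mul_right D hD _ _ _ (diagonal_le_borel D ht) h⟩

/-- multiplying a cell by an element of a parabolic subgroup on the left (weak form) -/
theorem para_mul_inCell (D : ChevalleyDatum) (hD : D ∈ Seven) (J : Set ℕ) (w : List ℕ)
    (hw : Wd D w) (y : GL D.Idx F) (hy : InCell D hD w y) (q : GL D.Idx F)
    (hq : q ∈ D.parabolicSubgroup F J) : ∃ a : List ℕ, WdIn D J a ∧ InCell D hD (a ++ w) (q * y) := by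
  have h1 := inCell_inv D hD w hw y hy
  obtain ⟨v, hv, h2⟩ := inCell_mul_para D hD J w.reverse hw.reverse y⁻¹ h1 q⁻¹ (inv_mem hq)
  have h3 := inCell_inv D hD _ (hw.reverse.append hv.wd) _ h2
  rw [List.reverse_append, List.reverse_reverse] at h3
  have e : (y⁻¹ * q⁻¹)⁻¹ = q * y := by group
  rw [e] at h3
  exact ⟨v.reverse, hv.reverse, h3⟩

/-- `x` lies in the double coset `P_J n_σ P_K` of the distinguished element `σ` -/
def DC (D : ChevalleyDatum) (hD : D ∈ Seven) (J K : Set ℕ) (x : GL D.Idx F)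
    (σ : Equiv.Perm (Fin D.nroots)) : Prop :=
  ∃ d : List ℕ, Wd D d ∧ IsDist D J K d ∧ wPerm D hD d = σ ∧
    ∃ p ∈ D.parabolicSubgroup F J, ∃ p' ∈ D.parabolicSubgroup F K, InCell D hD d (p * x * p')

theorem dc_exists_aux (D : ChevalleyDatum) (hD : D ∈ Seven) (J K : Set ℕ) :
    ∀ n : ℕ, ∀ d : List ℕ, Wd D d → (negSet D d).card = n → ∀ y : GL D.Idx F,
      InCell D hD d y → ∃ σ, DC D hD J K y σ := by
  intro n
  induction n using Nat.strong_induction_on with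
  | _ n ih =>
    intro d hd hn y hy
    by_cases hdist : IsDist D J K d
    · exact ⟨_, d, hd, hdist, rfl, 1, one_mem _, 1, one_mem _, by rwa [one_mul, mul_one]⟩
    · unfold IsDist at hdist
      rw [not_and_or] at hdist
      obtain ⟨b₁, hb₁, b₂, hb₂, rfl⟩ := hy
      rcases hdist with hA | hB
      · push Not at hA
        obtain ⟨j, hj, hjJ, hneg⟩ := hA
        have hcard : (negSet D (j :: d)).card + 1 = (negSet D d).card := by
          have h1 := card_negSet_append D hD d.reverse hd.reverse j hj hneg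
          have h2 := card_negSet_reverse D hD (j :: d) (Wd.cons hj hd)
          rw [List.reverse_cons] at h2
          rw [← h2, h1, card_negSet_reverse D hD d hd]
        have hcell : InCell D hD (j :: d)
            (nGL D hD j * b₁⁻¹ * (b₁ * wGL D hD d * b₂)) := by
          refine ⟨1, one_mem _, b₂, hb₂, ?_⟩
          rw [wGL_cons]
          group
        obtain ⟨σ, d', hd', hdist', e', p, hp, p', hp', hc⟩ :=
          ih ((negSet D (j :: d)).card) (by omega) (j :: d) (Wd.cons hj hd) rfl _ hcell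
        refine ⟨σ, d', hd', hdist', e', p * (nGL D hD j * b₁⁻¹),
          mul_mem hp (mul_mem (nGL_mem_parabolic D hD J j hjJ hj)
            (inv_mem (borel_le_parabolic D J hb₁))), p', hp', ?_⟩
        have e : p * (nGL D hD j * b₁⁻¹) * (b₁ * wGL D hD d * b₂) * p'
            = p * (nGL D hD j * b₁⁻¹ * (b₁ * wGL D hD d * b₂)) * p' := by group
        rw [e]
        exact hc
      · push Not at hB
        obtain ⟨k, hk, hkK, hneg⟩ := hB
        have hcard := card_negSet_append D hD d hd k hk hneg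
        have hcell : InCell D hD (d ++ [k]) (b₁ * wGL D hD d * b₂ * (b₂⁻¹ * nGL D hD k)) := by
          refine ⟨b₁, hb₁, 1, one_mem _, ?_⟩
          rw [wGL_append, wGL_single]
          group
        obtain ⟨σ, d', hd', hdist', e', p, hp, p', hp', hc⟩ :=
          ih ((negSet D (d ++ [k])).card) (by omega) (d ++ [k]) (hd.append (Wd.single hk)) rfl _
            hcell
        refine ⟨σ, d', hd', hdist', e', p, hp, b₂⁻¹ * nGL D hD k * p',
          mul_mem (mul_mem (inv_mem (borel_le_parabolic D K hb₂))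
            (nGL_mem_parabolic D hD K k hkK hk)) hp', ?_⟩
        have e : p * (b₁ * wGL D hD d * b₂) * (b₂⁻¹ * nGL D hD k * p')
            = p * (b₁ * wGL D hD d * b₂ * (b₂⁻¹ * nGL D hD k)) * p' := by group
        rw [e]
        exact hc

theorem dc_exists (D : ChevalleyDatum) (hD : D ∈ Seven) (J K : Set ℕ) (x : GL D.Idx F)
    (hx : x ∈ D.group F) : ∃ σ, DC D hD J K x σ := by
  obtain ⟨d, hd, hxd⟩ := inCell_exists D hD x hx
  exact dc_exists_aux D hD J K _ d hd rfl x hxd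

theorem dc_unique (D : ChevalleyDatum) (hD : D ∈ Seven) (J K : Set ℕ) (x : GL D.Idx F)
    (σ σ' : Equiv.Perm (Fin D.nroots)) (h : DC D hD J K x σ) (h' : DC D hD J K x σ') :
    σ = σ' := by
  obtain ⟨d, hd, hdist, rfl, p₁, hp₁, p₁', hp₁', hc⟩ := h
  obtain ⟨d', hd', hdist', rfl, p₂, hp₂, p₂', hp₂', hc'⟩ := h'
  obtain ⟨b, hb, h1⟩ := inCell_mul_para D hD K d hd _ hc (p₁'⁻¹ * p₂')
    (mul_mem (inv_mem hp₁') hp₂')
  obtain ⟨a, ha, h2⟩ := para_mul_inCell D hD J (d ++ b) (hd.append hb.wd) _ h1 (p₂ * p₁⁻¹)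
    (mul_mem hp₂ (inv_mem hp₁))
  have e : p₂ * p₁⁻¹ * (p₁ * x * p₁' * (p₁'⁻¹ * p₂')) = p₂ * x * p₂' := by group
  rw [e] at h2
  have e2 := inCell_unique D hD d' (a ++ (d ++ b)) hd' (ha.wd.append (hd.append hb.wd)) _ hc' h2
  rw [wPerm_append, wPerm_append, ← mul_assoc] at e2
  exact (dist_unique D hD J K d d' hd hd' hdist hdist' a b ha hb e2).symm

theorem dc_mul (D : ChevalleyDatum) (hD : D ∈ Seven) (J K : Set ℕ) (x : GL D.Idx F)
    (σ : Equiv.Perm (Fin D.nroots)) (h : DC D hD J K x σ) (p p' : GL D.Idx F)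
    (hp : p ∈ D.parabolicSubgroup F J) (hp' : p' ∈ D.parabolicSubgroup F K) :
    DC D hD J K (p * x * p') σ := by
  obtain ⟨d, hd, hdist, e, p₁, hp₁, p₁', hp₁', hc⟩ := h
  refine ⟨d, hd, hdist, e, p₁ * p⁻¹, mul_mem hp₁ (inv_mem hp), p'⁻¹ * p₁',
    mul_mem (inv_mem hp') hp₁', ?_⟩
  have e2 : p₁ * p⁻¹ * (p * x * p') * (p'⁻¹ * p₁') = p₁ * x * p₁' := by group
  rw [e2]
  exact hc

theorem dc_trans (D : ChevalleyDatum) (hD : D ∈ Seven) (J K : Set ℕ) (x y : GL D.Idx F)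
    (σ : Equiv.Perm (Fin D.nroots)) (h : DC D hD J K x σ) (h' : DC D hD J K y σ) :
    ∃ p ∈ D.parabolicSubgroup F J, ∃ p' ∈ D.parabolicSubgroup F K, y = p * x * p' := by
  obtain ⟨d, hd, -, rfl, p₁, hp₁, p₁', hp₁', hc⟩ := h
  obtain ⟨d', hd', -, e, p₂, hp₂, p₂', hp₂', hc'⟩ := h'
  obtain ⟨b₁, hb₁, b₂, hb₂, e1⟩ := hc
  obtain ⟨c₁, hc₁, c₂, hc₂, e2⟩ := inCell_congr D hD d' d hd' hd e _ hc'
  refine ⟨p₂⁻¹ * c₁ * b₁⁻¹ * p₁, mul_mem (mul_mem (mul_mem (inv_mem hp₂)
    (borel_le_parabolic D J hc₁)) (inv_mem (borel_le_parabolic D J hb₁))) hp₁,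
    p₁' * b₂⁻¹ * c₂ * p₂'⁻¹, mul_mem (mul_mem (mul_mem hp₁' (inv_mem (borel_le_parabolic D K hb₂)))
    (borel_le_parabolic D K hc₂)) (inv_mem hp₂'), ?_⟩
  have e3 : p₂⁻¹ * c₁ * b₁⁻¹ * p₁ * x * (p₁' * b₂⁻¹ * c₂ * p₂'⁻¹)
      = p₂⁻¹ * c₁ * b₁⁻¹ * (p₁ * x * p₁') * b₂⁻¹ * c₂ * p₂'⁻¹ := by group
  rw [e3, e1]
  have e4 : p₂⁻¹ * c₁ * b₁⁻¹ * (b₁ * wGL D hD d * b₂) * b₂⁻¹ * c₂ * p₂'⁻¹
      = p₂⁻¹ * (c₁ * wGL D hD d * c₂) * p₂'⁻¹ := by group
  rw [e4, ← e2]
  group

theorem dc_of_dist (D : ChevalleyDatum) (hD : D ∈ Seven) (J K : Set ℕ) (d : List ℕ) (hd : Wd D d)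
    (hdist : IsDist D J K d) : DC (F := F) D hD J K (wGL D hD d) (wPerm D hD d) :=
  ⟨d, hd, hdist, rfl, 1, one_mem _, 1, one_mem _,
    ⟨1, one_mem _, 1, one_mem _, by group⟩⟩

end Cfsg.Agent.Lib.Helper5.StChar
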