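import Mathlib
import Cfsg.Agent.Lib.Helper5.StChar.DoubleCell

set_option autoImplicit false

/-!
The orbits of a Chevalley group on `G / P_J × G / P_K` correspond to the distinguished elements
of the Weyl group.
-/

namespace Cfsg.Agent.Lib.Helper5.StChar

open Cfsg Cfsg.Lie Cfsg.Agent.Lib.Helper5.ChevSym Cfsg.Agent.Lib.Helper5.ChevStruct

variable {F : Type*} [Field F]

/-- the distinguished elements of the Weyl group, as permutations of the roots -/
def distSet (D : ChevalleyDatum) (hD : D ∈ Seven) (J K : Set ℕ) :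
    Set (Equiv.Perm (Fin D.nroots)) :=
  {σ | ∃ d : List ℕ, Wd D d ∧ IsDist D J K d ∧ wPerm D hD d = σ}

theorem dc_mem_distSet (D : ChevalleyDatum) (hD : D ∈ Seven) (J K : Set ℕ) (x : GL D.Idx F)
    (σ : Equiv.Perm (Fin D.nroots)) (h : DC D hD J K x σ) : σ ∈ distSet D hD J K := by
  obtain ⟨d, hd, hdist, e, -⟩ := h
  exact ⟨d, hd, hdist, e⟩

/-- the distinguished element attached to a pair of cosets -/
noncomputable def dcOf (D : ChevalleyDatum) (hD : D ∈ Seven) (J K : Set ℕ)
    (c : (↥(D.group F) ⧸ PIn D F J) × (↥(D.group F) ⧸ PIn D F K)) :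
    Equiv.Perm (Fin D.nroots) :=
  Classical.choose (dc_exists D hD J K
    (((Quotient.out c.1 : ↥(D.group F))⁻¹ * (Quotient.out c.2 : ↥(D.group F)) : ↥(D.group F)) :
      GL D.Idx F) (SetLike.coe_mem _))

theorem dcOf_spec (D : ChevalleyDatum) (hD : D ∈ Seven) (J K : Set ℕ)
    (c : (↥(D.group F) ⧸ PIn D F J) × (↥(D.group F) ⧸ PIn D F K)) :
    DC D hD J K
      (((Quotient.out c.1 : ↥(D.group F))⁻¹ * (Quotient.out c.2 : ↥(D.group F)) : ↥(D.group F)) :
        GL D.Idx F) (dcOf D hD J K c) :=
  Classical.choose_spec (dc_exists D hD J K _ (SetLike.coe_mem _))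

theorem dcOf_mk_iff (D : ChevalleyDatum) (hD : D ∈ Seven) (J K : Set ℕ) (x y : ↥(D.group F))
    (σ : Equiv.Perm (Fin D.nroots)) :
    dcOf D hD J K ((QuotientGroup.mk x : ↥(D.group F) ⧸ PIn D F J),
      (QuotientGroup.mk y : ↥(D.group F) ⧸ PIn D F K)) = σ ↔
      DC D hD J K ((x⁻¹ * y : ↥(D.group F)) : GL D.Idx F) σ := by
  obtain ⟨p, hp⟩ := QuotientGroup.mk_out_eq_mul (PIn D F J) x
  obtain ⟨p', hp'⟩ := QuotientGroup.mk_out_eq_mul (PIn D F K) y
  have hspec := dcOf_spec D hD J K ((QuotientGroup.mk x : ↥(D.group F) ⧸ PIn D F J),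
      (QuotientGroup.mk y : ↥(D.group F) ⧸ PIn D F K))
  simp only at hspec
  rw [hp, hp'] at hspec
  have hpJ : ((p : ↥(D.group F)) : GL D.Idx F) ∈ D.parabolicSubgroup F J := p.2
  have hpK : ((p' : ↥(D.group F)) : GL D.Idx F) ∈ D.parabolicSubgroup F K := p'.2
  have e1 : (((x * (p : ↥(D.group F)))⁻¹ * (y * (p' : ↥(D.group F))) : ↥(D.group F)) : GL D.Idx F)
      = ((p : ↥(D.group F)) : GL D.Idx F)⁻¹ * ((x⁻¹ * y : ↥(D.group F)) : GL D.Idx F) *
        ((p' : ↥(D.group F)) : GL D.Idx F) := by
    rw [← Subgroup.coe_inv, ← Subgroup.coe_mul, ← Subgroup.coe_mul]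
    congr 1
    group
  rw [e1] at hspec
  constructor
  · rintro rfl
    have := dc_mul D hD J K _ _ hspec _ _ hpJ (inv_mem hpK)
    have e2 : ((p : ↥(D.group F)) : GL D.Idx F) * (((p : ↥(D.group F)) : GL D.Idx F)⁻¹ *
        ((x⁻¹ * y : ↥(D.group F)) : GL D.Idx F) * ((p' : ↥(D.group F)) : GL D.Idx F)) *
        ((p' : ↥(D.group F)) : GL D.Idx F)⁻¹ = ((x⁻¹ * y : ↥(D.group F)) : GL D.Idx F) := by
      group
    rw [e2] at this
    exact this
  · intro h
    have := dc_mul D hD J K _ _ h _ _ (inv_mem hpJ) hpK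
    exact dc_unique D hD J K _ _ _ hspec this

theorem dcOf_smul (D : ChevalleyDatum) (hD : D ∈ Seven) (J K : Set ℕ) (g : ↥(D.group F))
    (c : (↥(D.group F) ⧸ PIn D F J) × (↥(D.group F) ⧸ PIn D F K)) :
    dcOf D hD J K (g • c) = dcOf D hD J K c := by
  obtain ⟨c₁, c₂⟩ := c
  induction c₁ using QuotientGroup.induction_on with
  | H x =>
    induction c₂ using QuotientGroup.induction_on with
    | H y =>
      rw [Prod.smul_mk, MulAction.Quotient.smul_mk, MulAction.Quotient.smul_mk, smul_eq_mul,
        smul_eq_mul, dcOf_mk_iff]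
      have e : (g * x)⁻¹ * (g * y) = x⁻¹ * y := by group
      rw [e]
      exact (dcOf_mk_iff D hD J K x y _).1 rfl

theorem card_orbits_para (D : ChevalleyDatum) (hD : D ∈ Seven) (J K : Set ℕ) :
    Nat.card (Quotient (MulAction.orbitRel ↥(D.group F)
      ((↥(D.group F) ⧸ PIn D F J) × (↥(D.group F) ⧸ PIn D F K)))) =
      Nat.card (distSet D hD J K) := by
  apply Nat.card_congr
  refine Equiv.ofBijective (Quotient.lift (fun c => (⟨dcOf D hD J K c,
    dc_mem_distSet D hD J K _ _ (dcOf_spec D hD J K c)⟩ : distSet D hD J K)) ?_) ⟨?_, ?_⟩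
  · intro c c' h
    have h2 : MulAction.orbitRel ↥(D.group F)
      ((↥(D.group F) ⧸ PIn D F J) × (↥(D.group F) ⧸ PIn D F K)) c c' := h
    rw [MulAction.orbitRel_apply, MulAction.mem_orbit_iff] at h2
    obtain ⟨g, rfl⟩ := h2
    apply Subtype.ext
    exact dcOf_smul D hD J K g c'
  · intro q q' h
    induction q using Quotient.inductionOn with
    | h c =>
      induction q' using Quotient.inductionOn with
      | h c' =>
        rw [Quotient.lift_mk, Quotient.lift_mk] at h
        have h' : dcOf D hD J K c = dcOf D hD J K c' := congrArg Subtype.val h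
        apply Quotient.sound
        obtain ⟨c₁, c₂⟩ := c
        obtain ⟨c₁', c₂'⟩ := c'
        induction c₁ using QuotientGroup.induction_on with
        | H x =>
          induction c₂ using QuotientGroup.induction_on with
          | H y =>
            induction c₁' using QuotientGroup.induction_on with
            | H x' =>
              induction c₂' using QuotientGroup.induction_on with
              | H y' =>
                have h1 := (dcOf_mk_iff D hD J K x y _).1 rfl
                have h2 := (dcOf_mk_iff D hD J K x' y' _).1 rfl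
                rw [← h'] at h2
                obtain ⟨p, hp, p', hp', e⟩ := dc_trans D hD J K _ _ _ h2 h1
                -- `x⁻¹ y = p (x'⁻¹ y') p'`
                set pp : ↥(D.group F) := ⟨p, parabolic_le_group D hD J hp⟩ with hpp
                set pp' : ↥(D.group F) := ⟨p', parabolic_le_group D hD K hp'⟩ with hpp'
                have e' : x⁻¹ * y = pp * (x'⁻¹ * y') * pp' := Subtype.ext e
                change MulAction.orbitRel _ _ _ _
                rw [MulAction.orbitRel_apply, MulAction.mem_orbit_iff]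
                refine ⟨x * pp * x'⁻¹, ?_⟩
                rw [Prod.smul_mk, MulAction.Quotient.smul_mk, MulAction.Quotient.smul_mk,
                  smul_eq_mul, smul_eq_mul]
                apply Prod.ext
                · change (QuotientGroup.mk (x * pp * x'⁻¹ * x') : ↥(D.group F) ⧸ PIn D F J)
                    = QuotientGroup.mk x
                  rw [QuotientGroup.eq]
                  have e3 : (x * pp * x'⁻¹ * x')⁻¹ * x = pp⁻¹ := by group
                  rw [e3]
                  exact inv_mem (show pp ∈ PIn D F J from hp)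
                · change (QuotientGroup.mk (x * pp * x'⁻¹ * y') : ↥(D.group F) ⧸ PIn D F K)
                    = QuotientGroup.mk y
                  rw [QuotientGroup.eq]
                  have e3 : (x * pp * x'⁻¹ * y')⁻¹ * y = (pp * (x'⁻¹ * y'))⁻¹ * (x⁻¹ * y) := by
                    group
                  rw [e3, e']
                  have e4 : (pp * (x'⁻¹ * y'))⁻¹ * (pp * (x'⁻¹ * y') * pp') = pp' := by group
                  rw [e4]
                  exact (show pp' ∈ PIn D F K from hp')
  · rintro ⟨σ, d, hd, hdist, rfl⟩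
    refine ⟨Quotient.mk _ ((QuotientGroup.mk 1 : ↥(D.group F) ⧸ PIn D F J),
      (QuotientGroup.mk ⟨wGL D hD d, monomial_le_group D hD (wGL_mem D hD d hd)⟩ :
        ↥(D.group F) ⧸ PIn D F K)), ?_⟩
    rw [Quotient.lift_mk]
    apply Subtype.ext
    change dcOf D hD J K _ = wPerm D hD d
    rw [dcOf_mk_iff]
    have e : (((1 : ↥(D.group F))⁻¹ * ⟨wGL D hD d, monomial_le_group D hD (wGL_mem D hD d hd)⟩ :
        ↥(D.group F)) : GL D.Idx F) = wGL D hD d := by
      rw [inv_one, one_mul]
    rw [e]
    exact dc_of_dist D hD J K d hd hdist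

end Cfsg.Agent.Lib.Helper5.StChar
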