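import Mathlib
import Cfsg.Agent.Lib.Helper5.StChar.Orbits
import Cfsg.Agent.Lib.Helper5.StChar.Degree
import Cfsg.Agent.Lib.Helper6.PermChar
import Cfsg.Agent.Lib.Helper6.GenCharOps
import Cfsg.Agent.Lib.Helper6.IrrBasis
import Cfsg.Agent.Lib.Helper6.GaloisConj

set_option autoImplicit false

/-!
The Steinberg character is irreducible: it is a generalized character of norm one and positive
degree.
-/

namespace Cfsg.Agent.Lib.Helper5.StChar

open Cfsg Cfsg.Lie Cfsg.Agent.Lib.Helper5.ChevSym Cfsg.Agent.Lib.Helper5.ChevStruct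
open Cfsg.Agent.Lib.Helper6
open scoped ComplexConjugate

variable {F : Type*} [Field F]

/-- the inner product of two permutation characters is the number of orbits on the product -/
theorem classInner_permChar_pair {G : Type*} [Group G] [Fintype G] (X Y : Type*) [MulAction G X]
    [MulAction G Y] [Finite X] [Finite Y] :
    Cfsg.classInner (permChar G X) (permChar G Y)
      = (Nat.card (Quotient (MulAction.orbitRel G (X × Y))) : ℂ) := by
  unfold Cfsg.classInner
  have h1 : ∀ g : G, permChar G X g * conj (permChar G Y g) = permChar G (X × Y) g := by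
    intro g
    rw [permChar_conj, permChar_prod]
  rw [Finset.sum_congr rfl (fun g _ => h1 g), sum_permChar]
  have hne : (Nat.card G : ℂ) ≠ 0 := by
    rw [Nat.cast_ne_zero]
    exact Nat.card_pos.ne'
  field_simp

theorem alt_sum_subsets (R A : Finset ℕ) (hA : A ⊆ R) :
    ∑ J ∈ R.powerset, (-1 : ℂ) ^ J.card * (if J ⊆ A then (1 : ℂ) else 0)
      = if A = ∅ then 1 else 0 := by
  simp only [mul_ite, mul_one, mul_zero]
  rw [← Finset.sum_filter]
  have hf : R.powerset.filter (fun J => J ⊆ A) = A.powerset := by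
    ext J
    rw [Finset.mem_filter, Finset.mem_powerset, Finset.mem_powerset]
    exact ⟨fun h => h.2, fun h => ⟨h.trans hA, h⟩⟩
  rw [hf]
  have h1 := Finset.sum_powerset_neg_one_pow_card (x := A)
  have := congrArg (Int.cast : ℤ → ℂ) h1
  push_cast at this
  exact this

/-- the set of simple roots kept positive by a permutation of the roots -/
noncomputable def ascOf (D : ChevalleyDatum) (σ : Equiv.Perm (Fin D.nroots)) : Finset ℕ :=
  by
    classical
    exact (Finset.range D.rank).filter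
      (fun j => ∃ h : D.simple j < D.nroots, D.IsPosRoot (σ ⟨D.simple j, h⟩).val)

theorem mem_ascOf_wPerm (D : ChevalleyDatum) (hD : D ∈ Seven) (d : List ℕ) (hd : Wd D d) (j : ℕ) :
    j ∈ ascOf D (wPerm D hD d) ↔ j < D.rank ∧ D.IsPosRoot (wAct D d (D.simple j)) := by
  classical
  unfold ascOf
  rw [Finset.mem_filter, Finset.mem_range]
  constructor
  · rintro ⟨hj, h, hp⟩
    rw [wPerm_apply D hD d hd] at hp
    exact ⟨hj, hp⟩
  · rintro ⟨hj, hp⟩
    refine ⟨hj, simple_lt D hD j hj, ?_⟩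
    rw [wPerm_apply D hD d hd]
    exact hp

theorem mem_distSet_iff (D : ChevalleyDatum) (hD : D ∈ Seven) (J K : Finset ℕ)
    (hJ : J ⊆ Finset.range D.rank) (hK : K ⊆ Finset.range D.rank)
    (σ : Equiv.Perm (Fin D.nroots)) :
    σ ∈ distSet D hD (↑J : Set ℕ) (↑K : Set ℕ) ↔
      (∃ d : List ℕ, Wd D d ∧ wPerm D hD d = σ) ∧ J ⊆ ascOf D σ⁻¹ ∧ K ⊆ ascOf D σ := by
  constructor
  · rintro ⟨d, hd, hdist, rfl⟩
    refine ⟨⟨d, hd, rfl⟩, ?_, ?_⟩
    · intro j hj
      rw [← wPerm_reverse D hD d hd, mem_ascOf_wPerm D hD _ hd.reverse]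
      have hj' := Finset.mem_range.1 (hJ hj)
      exact ⟨hj', hdist.1 j hj' (Finset.mem_coe.2 hj)⟩
    · intro k hk
      rw [mem_ascOf_wPerm D hD _ hd]
      have hk' := Finset.mem_range.1 (hK hk)
      exact ⟨hk', hdist.2 k hk' (Finset.mem_coe.2 hk)⟩
  · rintro ⟨⟨d, hd, rfl⟩, h1, h2⟩
    refine ⟨d, hd, ⟨?_, ?_⟩, rfl⟩
    · intro j _ hjJ
      have := h1 (Finset.mem_coe.1 hjJ)
      rw [← wPerm_reverse D hD d hd, mem_ascOf_wPerm D hD _ hd.reverse] at this
      exact this.2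
    · intro k _ hkK
      have := h2 (Finset.mem_coe.1 hkK)
      rw [mem_ascOf_wPerm D hD _ hd] at this
      exact this.2

theorem ascOf_subset (D : ChevalleyDatum) (σ : Equiv.Perm (Fin D.nroots)) :
    ascOf D σ ⊆ Finset.range D.rank := by
  classical
  unfold ascOf
  exact Finset.filter_subset _ _

/-- only the longest element has no ascent on either side -/
theorem no_ascent_iff (D : ChevalleyDatum) (hD : D ∈ Seven) (w : List ℕ) (h : checkW0 D w = true)
    (σ : Equiv.Perm (Fin D.nroots)) :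
    ((∃ d : List ℕ, Wd D d ∧ wPerm D hD d = σ) ∧ ascOf D σ⁻¹ = ∅ ∧ ascOf D σ = ∅) ↔
      σ = wPerm D hD w.reverse := by
  obtain ⟨hw, hpos0, -⟩ := checkW0_spec D w h
  constructor
  · rintro ⟨⟨d, hd, rfl⟩, -, h2⟩
    apply wPerm_eq_w0 D hD w h d hd
    intro j hj hp
    have : j ∈ ascOf D (wPerm D hD d) := (mem_ascOf_wPerm D hD d hd j).2 ⟨hj, hp⟩
    rw [h2] at this
    exact absurd this (Finset.notMem_empty j)
  · rintro rfl
    refine ⟨⟨w.reverse, hw.reverse, rfl⟩, ?_, ?_⟩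
    · rw [← wPerm_reverse D hD _ hw.reverse, List.reverse_reverse,
        Finset.eq_empty_iff_forall_notMem]
      intro j hj
      rw [mem_ascOf_wPerm D hD w hw] at hj
      exact not_pos_of_neg D hD _ (hpos0 _ (simple_pos D hD j hj.1)) hj.2
    · rw [Finset.eq_empty_iff_forall_notMem]
      intro j hj
      rw [mem_ascOf_wPerm D hD _ hw.reverse] at hj
      exact w0_simple_neg D hD w h j hj.1 hj.2

/-- Solomon's formula for the alternating sum of the numbers of double cosets -/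
theorem alt_sum_distSet (D : ChevalleyDatum) (hD : D ∈ Seven) :
    ∑ J ∈ (Finset.range D.rank).powerset, ∑ K ∈ (Finset.range D.rank).powerset,
      (-1 : ℂ) ^ J.card * ((-1 : ℂ) ^ K.card *
        (Nat.card (distSet D hD (↑J : Set ℕ) (↑K : Set ℕ)) : ℂ)) = 1 := by
  classical
  obtain ⟨w, hw0⟩ := exists_w0 D hD
  set R := Finset.range D.rank with hR
  have hterm : ∀ J ∈ R.powerset, ∀ K ∈ R.powerset,
      (-1 : ℂ) ^ J.card * ((-1 : ℂ) ^ K.card *
        (Nat.card (distSet D hD (↑J : Set ℕ) (↑K : Set ℕ)) : ℂ))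
      = ∑ σ : Equiv.Perm (Fin D.nroots),
        (if (∃ d : List ℕ, Wd D d ∧ wPerm D hD d = σ) then (1 : ℂ) else 0) *
          (((-1 : ℂ) ^ J.card * (if J ⊆ ascOf D σ⁻¹ then (1 : ℂ) else 0)) *
          ((-1 : ℂ) ^ K.card * (if K ⊆ ascOf D σ then (1 : ℂ) else 0))) := by
    intro J hJ K hK
    rw [Finset.mem_powerset] at hJ hK
    have h1 : distSet D hD (↑J : Set ℕ) (↑K : Set ℕ)
        = {σ | (∃ d : List ℕ, Wd D d ∧ wPerm D hD d = σ) ∧ J ⊆ ascOf D σ⁻¹ ∧ K ⊆ ascOf D σ} := by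
      ext σ
      exact mem_distSet_iff D hD J K hJ hK σ
    rw [h1, natCard_setOf_eq_sum, Finset.mul_sum, Finset.mul_sum]
    apply Finset.sum_congr rfl
    intro σ _
    by_cases ha : ∃ d : List ℕ, Wd D d ∧ wPerm D hD d = σ
    · by_cases hb : J ⊆ ascOf D σ⁻¹
      · by_cases hc : K ⊆ ascOf D σ
        · simp [ha, hb, hc]
        · simp [ha, hb, hc]
      · simp [ha, hb]
    · simp [ha]
  rw [Finset.sum_congr rfl (fun J hJ => Finset.sum_congr rfl (fun K hK => hterm J hJ K hK))]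
  -- move the sum over `σ` outside
  have hswap : ∑ J ∈ R.powerset, ∑ K ∈ R.powerset, ∑ σ : Equiv.Perm (Fin D.nroots),
        (if (∃ d : List ℕ, Wd D d ∧ wPerm D hD d = σ) then (1 : ℂ) else 0) *
          (((-1 : ℂ) ^ J.card * (if J ⊆ ascOf D σ⁻¹ then (1 : ℂ) else 0)) *
          ((-1 : ℂ) ^ K.card * (if K ⊆ ascOf D σ then (1 : ℂ) else 0)))
      = ∑ σ : Equiv.Perm (Fin D.nroots),
        (if (∃ d : List ℕ, Wd D d ∧ wPerm D hD d = σ) then (1 : ℂ) else 0) *
          ((∑ J ∈ R.powerset, (-1 : ℂ) ^ J.card * (if J ⊆ ascOf D σ⁻¹ then (1 : ℂ) else 0)) *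
          (∑ K ∈ R.powerset, (-1 : ℂ) ^ K.card * (if K ⊆ ascOf D σ then (1 : ℂ) else 0))) := by
    have h2 : ∀ J ∈ R.powerset, ∑ K ∈ R.powerset, ∑ σ : Equiv.Perm (Fin D.nroots),
        (if (∃ d : List ℕ, Wd D d ∧ wPerm D hD d = σ) then (1 : ℂ) else 0) *
          (((-1 : ℂ) ^ J.card * (if J ⊆ ascOf D σ⁻¹ then (1 : ℂ) else 0)) *
          ((-1 : ℂ) ^ K.card * (if K ⊆ ascOf D σ then (1 : ℂ) else 0)))
        = ∑ σ : Equiv.Perm (Fin D.nroots), ∑ K ∈ R.powerset,
        (if (∃ d : List ℕ, Wd D d ∧ wPerm D hD d = σ) then (1 : ℂ) else 0) *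
          (((-1 : ℂ) ^ J.card * (if J ⊆ ascOf D σ⁻¹ then (1 : ℂ) else 0)) *
          ((-1 : ℂ) ^ K.card * (if K ⊆ ascOf D σ then (1 : ℂ) else 0))) :=
      fun J _ => Finset.sum_comm
    rw [Finset.sum_congr rfl h2, Finset.sum_comm]
    apply Finset.sum_congr rfl
    intro σ _
    rw [Finset.sum_mul_sum, Finset.mul_sum]
    apply Finset.sum_congr rfl
    intro J _
    rw [Finset.mul_sum]
  rw [hswap]
  have hσ : ∀ σ : Equiv.Perm (Fin D.nroots),
      (if (∃ d : List ℕ, Wd D d ∧ wPerm D hD d = σ) then (1 : ℂ) else 0) *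
          ((∑ J ∈ R.powerset, (-1 : ℂ) ^ J.card * (if J ⊆ ascOf D σ⁻¹ then (1 : ℂ) else 0)) *
          (∑ K ∈ R.powerset, (-1 : ℂ) ^ K.card * (if K ⊆ ascOf D σ then (1 : ℂ) else 0)))
      = if σ = wPerm D hD w.reverse then 1 else 0 := by
    intro σ
    rw [alt_sum_subsets R _ (ascOf_subset D σ⁻¹), alt_sum_subsets R _ (ascOf_subset D σ)]
    have hiff := no_ascent_iff D hD w hw0 σ
    by_cases hσ0 : σ = wPerm D hD w.reverse
    · obtain ⟨ha, hb, hc⟩ := hiff.2 hσ0
      rw [if_pos ha, if_pos hb, if_pos hc, if_pos hσ0]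
      norm_num
    · rw [if_neg hσ0]
      by_cases ha : ∃ d : List ℕ, Wd D d ∧ wPerm D hD d = σ
      · by_cases hb : ascOf D σ⁻¹ = ∅
        · by_cases hc : ascOf D σ = ∅
          · exact absurd (hiff.1 ⟨ha, hb, hc⟩) hσ0
          · rw [if_neg hc]
            ring
        · rw [if_neg hb]
          ring
      · rw [if_neg ha]
        ring
  rw [Finset.sum_congr rfl (fun σ _ => hσ σ), Finset.sum_ite_eq' Finset.univ]
  simp

end Cfsg.Agent.Lib.Helper5.StChar
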