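import Mathlib
import Cfsg.Agent.Lib.Helper5.StChar.Irred

set_option autoImplicit false

/-!
The Steinberg character is an irreducible character.
-/

namespace Cfsg.Agent.Lib.Helper5.StChar

open Cfsg Cfsg.Lie Cfsg.Agent.Lib.Helper5.ChevSym Cfsg.Agent.Lib.Helper5.ChevStruct
open Cfsg.Agent.Lib.Helper6
open scoped ComplexConjugate

variable {F : Type*} [Field F]

theorem steinberg_eq_sum (D : ChevalleyDatum) :
    D.steinbergCharacter F = ∑ J ∈ (Finset.range D.rank).powerset,
      ((-1 : ℂ) ^ J.card) • permChar ↥(D.group F) (↥(D.group F) ⧸ PIn D F (↑J : Set ℕ)) := by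
  funext g
  unfold ChevalleyDatum.steinbergCharacter fixedPointCharacter ChevalleyDatum.parabolicIn permChar
  rw [Finset.sum_apply]
  rfl

theorem steinberg_isGeneralizedCharacter (D : ChevalleyDatum) [Finite F] :
    Cfsg.IsGeneralizedCharacter ↥(D.group F) (D.steinbergCharacter F) := by
  classical
  have : Fintype F := Fintype.ofFinite F
  rw [steinberg_eq_sum]
  apply IsGeneralizedCharacter.sum
  intro J _
  have h1 := IsCharacter.isGeneralizedCharacter (isCharacter_permChar (G := ↥(D.group F))
    (↥(D.group F) ⧸ PIn D F (↑J : Set ℕ)))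
  have h2 := IsGeneralizedCharacter.intCast_smul h1 ((-1) ^ J.card)
  have e : (((-1 : ℤ) ^ J.card : ℤ) : ℂ) = (-1 : ℂ) ^ J.card := by push_cast; rfl
  rw [e] at h2
  exact h2

theorem steinberg_norm (D : ChevalleyDatum) (hD : D ∈ Seven) [Finite F]
    [Fintype ↥(D.group F)] :
    Cfsg.classInner (D.steinbergCharacter F) (D.steinbergCharacter F) = 1 := by
  classical
  have : Fintype F := Fintype.ofFinite F
  rw [steinberg_eq_sum, classInner_sum_left]
  refine Eq.trans ?_ (alt_sum_distSet D hD)
  apply Finset.sum_congr rfl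
  intro J _
  rw [classInner_sum_right]
  apply Finset.sum_congr rfl
  intro K _
  rw [classInner_smul_left, classInner_smul_right, classInner_permChar_pair, card_orbits_para D hD]
  congr 2
  rw [map_pow, map_neg, map_one]

theorem steinberg_irreducible (D : ChevalleyDatum) (hD : D ∈ Seven) [Fintype F] :
    Cfsg.IsIrrCharacter ↥(D.group F) (D.steinbergCharacter F) := by
  classical
  have : Fintype ↥(D.group F) := Fintype.ofFinite _
  apply IsGeneralizedCharacter.isIrrCharacter_of_norm_one (steinberg_isGeneralizedCharacter D)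
    (steinberg_norm D hD)
  rw [steinberg_degree D hD]
  have : ((Fintype.card F : ℂ) ^ (D.nroots / 2)) = ((Fintype.card F ^ (D.nroots / 2) : ℕ) : ℂ) := by
    push_cast
    rfl
  rw [this, Complex.natCast_re]
  exact_mod_cast Nat.pos_of_ne_zero (pow_ne_zero _ Fintype.card_ne_zero)

end Cfsg.Agent.Lib.Helper5.StChar
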