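import Mathlib
import Cfsg.Agent.Lib.Helper5.StChar.IrredMain
import Cfsg.Agent.Lib.Helper5.ChevSylow
import Cfsg.Agent.S0165

set_option autoImplicit false

/-!
The Steinberg character has defect zero, hence vanishes on the `p`-singular elements.
-/

namespace Cfsg.Agent.Lib.Helper5.StChar

open Cfsg Cfsg.Lie Cfsg.Agent.Lib.Helper5.ChevSym Cfsg.Agent.Lib.Helper5.ChevStruct

variable {F : Type*} [Field F]

theorem steinberg_vanish [Fintype F] (p : ℕ) [Fact p.Prime] [CharP F p] (D : ChevalleyDatum)
    (hD : D ∈ Seven) (g : ↥(D.group F)) (hg : p ∣ orderOf g) : D.steinbergCharacter F g = 0 := by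
  classical
  have hp : p.Prime := Fact.out
  obtain ⟨n, ρ, hirr, hchar⟩ := steinberg_irreducible (F := F) D hD
  have := hirr
  obtain ⟨P, hP⟩ := pos_isSylow (F := F) p D hD
  have hcardP : Nat.card (P : Subgroup ↥(D.group F)) = Fintype.card F ^ (D.nroots / 2) := by
    rw [hP, Nat.card_congr (Subgroup.subgroupOfEquivOfLe (pos_le_group D hD)).toEquiv,
      card_posUnipotent D hD]
  have hmult := P.card_eq_multiplicity
  set m := (Nat.card ↥(D.group F)).factorization p with hm
  have hn1 : p ^ m ∣ Nat.card ↥(D.group F) := Nat.ordProj_dvd _ _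
  have hn2 : ¬ p ^ (m + 1) ∣ Nat.card ↥(D.group F) :=
    Nat.pow_succ_factorization_not_dvd Nat.card_pos.ne' hp
  have hdeg : (n : ℂ) = (Fintype.card F : ℂ) ^ (D.nroots / 2) := by
    have h1 := Representation.char_one ρ
    rw [hchar, steinberg_degree D hD] at h1
    rw [h1]
    simp
  have hdeg' : n = p ^ m := by
    have : (n : ℂ) = ((Fintype.card F ^ (D.nroots / 2) : ℕ) : ℂ) := by
      rw [hdeg]
      push_cast
      rfl
    have h2 : n = Fintype.card F ^ (D.nroots / 2) := Nat.cast_injective this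
    rw [h2, ← hcardP]
    exact hmult
  have hfin : p ^ m ∣ Module.finrank ℂ (Fin n → ℂ) := by
    rw [Module.finrank_fin_fun, hdeg']
  have := Cfsg.Agent.S0165.result ρ p m hp hn1 hn2 hfin g hg
  rw [← hchar]
  exact this

end Cfsg.Agent.Lib.Helper5.StChar
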